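import Cfsg.Agent.H54.PQ.Defs
import Mathlib.GroupTheory.PGroup

/-!
# S4981: the ambient lemma (helper754)

`GG` a finite group with an abelian Sylow `p`-subgroup `T`, `φ` an automorphism of `GG` acting on `T` as a power map,
`π : S' → S` surjective with central kernel of order prime to `p`, `ι : S' → GG` injective. Then every `p`-element `x` of
`S` satisfies `PCent p x`, and if `a` is an automorphism of `S` of `p`-power order with
`a (π y) = π y'`, `ι y' = s φ(ι y) s⁻¹`, then `a x` is conjugate to a power of `x`.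

* `comm_of_isPGroup` : `p`-subgroups of `GG` are abelian;
* `exists_sylow_invariant` : an automorphism of `p`-power order fixes a Sylow `p`-subgroup;
* `pCent_of_ambient`, `powA_of_ambient` : the ambient lemma.
-/

set_option autoImplicit false

namespace Cfsg.Agent.H754.PQ

open Subgroup Cfsg.Agent.H54.PQ
open scoped Pointwise

universe u v w

section general

theorem mem_smul_sylow {p : ℕ} {GG : Type w} [Group GG] {P : Sylow p GG} {g x : GG} :
    x ∈ ((g • P : Sylow p GG) : Subgroup GG) ↔ g⁻¹ * x * g ∈ P := by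
  constructor
  · rintro ⟨z, hz, rfl⟩
    have h1 : g⁻¹ * (g * z * g⁻¹) * g = z := by group
    show g⁻¹ * (g * z * g⁻¹) * g ∈ P
    rw [h1]
    exact hz
  · intro h
    refine ⟨_, h, ?_⟩
    show g * (g⁻¹ * x * g) * g⁻¹ = x
    group

variable {p : ℕ} [hp : Fact p.Prime]

/-- If some Sylow `p`-subgroup is abelian then all `p`-subgroups are. -/
theorem comm_of_isPGroup {GG : Type w} [Group GG] [Finite GG] (T : Sylow p GG)
    (hT : ∀ x ∈ T, ∀ y ∈ T, x * y = y * x) {H : Subgroup GG} (hH : IsPGroup p H) {x y : GG} (hx : x ∈ H)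
    (hy : y ∈ H) : x * y = y * x := by
  obtain ⟨P, hP⟩ := hH.exists_le_sylow
  obtain ⟨g, hg⟩ := MulAction.exists_smul_eq GG T P
  have key : ∀ z ∈ H, g⁻¹ * z * g ∈ T := by
    intro z hz
    rw [← mem_smul_sylow, hg]
    exact hP hz
  have h := hT _ (key x hx) _ (key y hy)
  have h1 : g⁻¹ * (x * y) * g = g⁻¹ * (y * x) * g := by
    calc g⁻¹ * (x * y) * g = (g⁻¹ * x * g) * (g⁻¹ * y * g) := by group
      _ = (g⁻¹ * y * g) * (g⁻¹ * x * g) := h
      _ = g⁻¹ * (y * x) * g := by group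
  exact mul_left_cancel (mul_right_cancel h1)

/-- An automorphism of `p`-power order leaves some Sylow `p`-subgroup invariant. -/
theorem exists_sylow_invariant {S : Type u} [Group S] [Finite S] {a : MulAut S} {j : ℕ} (ha : a ^ p ^ j = 1) :
    ∃ R : Sylow p S, ∀ x ∈ R, a x ∈ R := by
  have h1 : IsPGroup p (zpowers a) := by
    rw [IsPGroup.iff_orderOf]
    rintro ⟨b, hb⟩
    obtain ⟨k, hk⟩ := mem_zpowers_iff.1 hb
    have h2 : b ^ p ^ j = 1 := by
      rw [← hk, ← zpow_natCast, ← zpow_mul, mul_comm, zpow_mul, zpow_natCast, ha, one_zpow]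
    obtain ⟨m, _, hm⟩ := (Nat.dvd_prime_pow hp.out).1 (orderOf_dvd_of_pow_eq_one h2)
    exact ⟨m, by rw [Subgroup.orderOf_mk]; exact hm⟩
  have h2 : ¬ p ∣ Nat.card (Sylow p S) := not_dvd_card_sylow p S
  obtain ⟨R, hR⟩ := h1.nonempty_fixed_point_of_prime_not_dvd_card (α := Sylow p S) h2
  refine ⟨R, fun x hx => ?_⟩
  have h3 : (⟨a, mem_zpowers a⟩ : zpowers a) • R = R := hR _
  rw [← h3]
  exact ⟨x, hx, rfl⟩

/-- Burnside: if `T` is an abelian Sylow subgroup and `h` normalises `A₀ ≤ T` then some element of the normalizer of `T`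
acts on `A₀` as `h`. -/
theorem burnside {GG : Type w} [Group GG] [Finite GG] (T : Sylow p GG) (hT : ∀ x ∈ T, ∀ y ∈ T, x * y = y * x)
    {A₀ : Subgroup GG} (hA : A₀ ≤ T) {h : GG} (hh : ∀ x ∈ A₀, h * x * h⁻¹ ∈ A₀) :
    ∃ n ∈ normalizer ((T : Subgroup GG) : Set GG), ∀ x ∈ A₀, n * x * n⁻¹ = h * x * h⁻¹ := by
  have h1 : (T : Subgroup GG) ≤ centralizer (A₀ : Set GG) := fun t ht => by
    rw [mem_centralizer_iff]
    intro x hx
    exact hT x (hA hx) t ht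
  have h2 : ((h⁻¹ • T : Sylow p GG) : Subgroup GG) ≤ centralizer (A₀ : Set GG) := by
    intro t ht
    rw [mem_smul_sylow, inv_inv] at ht
    rw [mem_centralizer_iff]
    intro x hx
    have h4 := hT _ (hA (hh x hx)) _ ht
    have h5 : h * (x * t) * h⁻¹ = h * (t * x) * h⁻¹ := by
      calc h * (x * t) * h⁻¹ = (h * x * h⁻¹) * (h * t * h⁻¹) := by group
        _ = (h * t * h⁻¹) * (h * x * h⁻¹) := h4
        _ = h * (t * x) * h⁻¹ := by group
    exact mul_left_cancel (mul_right_cancel h5)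
  obtain ⟨c, hc⟩ := MulAction.exists_smul_eq (centralizer (A₀ : Set GG)) ((h⁻¹ • T).subtype h2) (T.subtype h1)
  simp_rw [Sylow.smul_subtype, Subgroup.smul_def, smul_smul] at hc
  have h6 : ((c : GG) * h⁻¹) • T = T := Sylow.subtype_injective hc
  have h7 : (c : GG) * h⁻¹ ∈ normalizer ((T : Subgroup GG) : Set GG) := Sylow.smul_eq_iff_mem_normalizer.mp h6
  refine ⟨((c : GG) * h⁻¹)⁻¹, inv_mem h7, fun x hx => ?_⟩
  have h8 : (c : GG)⁻¹ * x * c = x := by
    have h9 := (mem_centralizer_iff.1 c.2) x hx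
    rw [mul_assoc, h9]
    group
  calc ((c : GG) * h⁻¹)⁻¹ * x * (((c : GG) * h⁻¹)⁻¹)⁻¹ = h * ((c : GG)⁻¹ * x * c) * h⁻¹ := by group
    _ = h * x * h⁻¹ := by rw [h8]

/-- Some power prime to `p` of an element of the normalizer of an abelian Sylow subgroup `T` centralises `T`. -/
theorem exists_pow_centralizes {GG : Type w} [Group GG] [Finite GG] (T : Sylow p GG)
    (hT : ∀ x ∈ T, ∀ y ∈ T, x * y = y * x) {n : GG} (hn : n ∈ normalizer ((T : Subgroup GG) : Set GG)) :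
    ∃ k : ℕ, ¬ p ∣ k ∧ ∀ x ∈ T, n ^ k * x * (n ^ k)⁻¹ = x := by
  have hf : orderOf n ≠ 0 := (isOfFinOrder_of_finite n).orderOf_pos.ne'
  obtain ⟨e, m, hm, hem⟩ := Nat.exists_eq_pow_mul_and_not_dvd hf p hp.out.ne_one
  refine ⟨m, hm, fun x hx => ?_⟩
  -- `n ^ m` is a `p`-element normalising `T`
  have h1 : (n ^ m) ^ p ^ e = 1 := by rw [← pow_mul, mul_comm, ← hem, pow_orderOf_eq_one]
  have h2 : IsPGroup p (zpowers (n ^ m)) := by
    rw [IsPGroup.iff_orderOf]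
    rintro ⟨b, hb⟩
    obtain ⟨k, hk⟩ := mem_zpowers_iff.1 hb
    have h2 : b ^ p ^ e = 1 := by
      rw [← hk, ← zpow_natCast, ← zpow_mul, mul_comm, zpow_mul, zpow_natCast, h1, one_zpow]
    obtain ⟨m', _, hm'⟩ := (Nat.dvd_prime_pow hp.out).1 (orderOf_dvd_of_pow_eq_one h2)
    exact ⟨m', by rw [Subgroup.orderOf_mk]; exact hm'⟩
  have h3 : n ^ m ∈ (T : Subgroup GG) := by
    have h4 := h2.inf_normalizer_sylow T
    have h5 : n ^ m ∈ zpowers (n ^ m) ⊓ (T : Subgroup GG) := by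
      rw [← h4]
      exact ⟨mem_zpowers _, pow_mem hn m⟩
    exact h5.2
  rw [hT _ h3 x hx, mul_inv_cancel_right]

/-- A `p`-element is conjugate to an element of a given Sylow subgroup. -/
theorem exists_conj_mem {GG : Type w} [Group GG] [Finite GG] (T : Sylow p GG) {x : GG}
    (hx : ∃ k : ℕ, x ^ p ^ k = 1) : ∃ g : GG, g * x * g⁻¹ ∈ T := by
  obtain ⟨k, hk⟩ := hx
  have h2 : IsPGroup p (zpowers x) := by
    rw [IsPGroup.iff_orderOf]
    rintro ⟨b, hb⟩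
    obtain ⟨i, hi⟩ := mem_zpowers_iff.1 hb
    have h2 : b ^ p ^ k = 1 := by
      rw [← hi, ← zpow_natCast, ← zpow_mul, mul_comm, zpow_mul, zpow_natCast, hk, one_zpow]
    obtain ⟨m', _, hm'⟩ := (Nat.dvd_prime_pow hp.out).1 (orderOf_dvd_of_pow_eq_one h2)
    exact ⟨m', by rw [Subgroup.orderOf_mk]; exact hm'⟩
  obtain ⟨P, hP⟩ := h2.exists_le_sylow
  obtain ⟨g, hg⟩ := MulAction.exists_smul_eq GG T P
  refine ⟨g⁻¹, ?_⟩
  rw [inv_inv, ← mem_smul_sylow, hg]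
  exact hP (mem_zpowers x)

/-- A `p`-subgroup can be conjugated into a given Sylow subgroup. -/
theorem exists_conj_le {GG : Type w} [Group GG] [Finite GG] (T : Sylow p GG) {H : Subgroup GG}
    (hH : IsPGroup p H) : ∃ g : GG, ∀ x ∈ H, g * x * g⁻¹ ∈ T := by
  obtain ⟨P, hP⟩ := hH.exists_le_sylow
  obtain ⟨g, hg⟩ := MulAction.exists_smul_eq GG T P
  refine ⟨g⁻¹, fun x hx => ?_⟩
  rw [inv_inv, ← mem_smul_sylow, hg]
  exact hP hx

end general

section ambient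

set_option linter.unusedSectionVars false

variable {p : ℕ} [hp : Fact p.Prime] {GG : Type w} [Group GG] [Finite GG] {S' : Type v} [Group S'] [Finite S']
  {S : Type u} [Group S] [Finite S]

/-- `S` has an abelian Sylow `p`-subgroup. -/
theorem exists_comm_sylow (T : Sylow p GG) (hT : ∀ x ∈ T, ∀ y ∈ T, x * y = y * x) (ι : S' →* GG)
    (hι : Function.Injective ι) (π : S' →* S) (hπ : Function.Surjective π) :
    ∃ R : Sylow p S, ∀ x ∈ R, ∀ y ∈ R, x * y = y * x := by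
  obtain ⟨P⟩ : Nonempty (Sylow p S') := inferInstance
  refine ⟨P.mapSurjective hπ, ?_⟩
  rintro _ ⟨x, hx, rfl⟩ _ ⟨y, hy, rfl⟩
  rw [← map_mul, ← map_mul]
  congr 1
  apply hι
  rw [map_mul, map_mul]
  exact comm_of_isPGroup T hT (H := (P : Subgroup S').map ι) (P.2.map ι) ⟨x, hx, rfl⟩ ⟨y, hy, rfl⟩

/-- **Ambient lemma, first part.** -/
theorem pCent_of_ambient (T : Sylow p GG) (hT : ∀ x ∈ T, ∀ y ∈ T, x * y = y * x) (ι : S' →* GG)
    (hι : Function.Injective ι) (π : S' →* S) (hπ : Function.Surjective π) {x : S}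
    (hx : ∃ k : ℕ, x ^ p ^ k = 1) : PCent p x := by
  obtain ⟨R, hR⟩ := exists_comm_sylow T hT ι hι π hπ
  obtain ⟨k, hk⟩ := hx
  obtain ⟨m, _, hm⟩ := (Nat.dvd_prime_pow hp.out).1 (orderOf_dvd_of_pow_eq_one hk)
  refine ⟨⟨m, hm⟩, fun hd => ?_⟩
  obtain ⟨g, hg⟩ := exists_conj_mem R ⟨k, hk⟩
  have h1 : ((g⁻¹ • R : Sylow p S) : Subgroup S) ≤ centralizer ({x} : Set S) := by
    intro y hy
    rw [mem_smul_sylow, inv_inv] at hy
    rw [mem_centralizer_singleton_iff]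
    have h2 := hR _ hy _ hg
    have h3 : g * (y * x) * g⁻¹ = g * (x * y) * g⁻¹ := by
      calc g * (y * x) * g⁻¹ = (g * y * g⁻¹) * (g * x * g⁻¹) := by group
        _ = (g * x * g⁻¹) * (g * y * g⁻¹) := h2
        _ = g * (x * y) * g⁻¹ := by group
    exact mul_left_cancel (mul_right_cancel h3)
  exact (g⁻¹ • R : Sylow p S).not_dvd_index (hd.trans (index_dvd_of_le h1))

/-- **Ambient lemma, second part.** -/
theorem powA_of_ambient (T : Sylow p GG) (hT : ∀ x ∈ T, ∀ y ∈ T, x * y = y * x) (ι : S' →* GG)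
    (hι : Function.Injective ι) (π : S' →* S) (hπ : Function.Surjective π)
    (hker : ∀ z ∈ π.ker, z ∈ center S') (hkp : ¬ p ∣ Nat.card π.ker) {a : MulAut S} {j : ℕ} (ha : a ^ p ^ j = 1)
    (φ : MulAut GG) (e : ℕ) (hφ : ∀ t ∈ T, φ t = t ^ e) (s : GG)
    (hs : ∀ y : S', ∃ y' : S', ι y' = s * φ (ι y) * s⁻¹ ∧ π y' = a (π y)) {x : S}
    (hx : ∃ k : ℕ, x ^ p ^ k = 1) : ∃ k : ℕ, IsConj (a x) (x ^ k) := by
  obtain ⟨R, hR⟩ := exists_sylow_invariant ha
  obtain ⟨R', hR'⟩ := Sylow.mapSurjective_surjective hπ p R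
  have hmemR : ∀ y ∈ R', π y ∈ R := fun y hy => by
    rw [← hR']
    exact ⟨y, hy, rfl⟩
  have hexR : ∀ x ∈ R, ∃ y ∈ R', π y = x := fun x hx => by
    rw [← hR'] at hx
    exact hx
  -- `y ↦ s φ(ι y) s⁻¹` leaves `R'` invariant
  have step : ∀ y ∈ R', ∃ y' ∈ R', ι y' = s * φ (ι y) * s⁻¹ ∧ π y' = a (π y) := by
    intro y hy
    obtain ⟨y', h1, h2⟩ := hs y
    obtain ⟨w, hw, hwy⟩ := hexR _ (hR _ (hmemR y hy))
    refine ⟨y', ?_, h1, h2⟩
    have hz : w⁻¹ * y' ∈ π.ker := by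
      rw [MonoidHom.mem_ker, map_mul, map_inv, hwy, h2, inv_mul_cancel]
    obtain ⟨m, hm⟩ := (IsPGroup.iff_card.1 R'.2)
    have hy0 : y ^ p ^ m = 1 := by
      have := pow_card_eq_one' (G := R') (x := ⟨y, hy⟩)
      rw [hm] at this
      exact congrArg Subtype.val this
    have hw0 : w ^ p ^ m = 1 := by
      have := pow_card_eq_one' (G := R') (x := ⟨w, hw⟩)
      rw [hm] at this
      exact congrArg Subtype.val this
    have hy'0 : y' ^ p ^ m = 1 := by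
      apply hι
      rw [map_pow, h1, map_one, conj_pow, ← map_pow, ← map_pow, hy0, map_one, map_one, mul_one, mul_inv_cancel]
    have hz0 : (w⁻¹ * y') ^ p ^ m = 1 := by
      have hc : Commute w (w⁻¹ * y') := (mem_center_iff.1 (hker _ hz) w)
      have h3 : w * (w⁻¹ * y') = y' := by group
      have h4 := hc.mul_pow (p ^ m)
      rw [h3, hy'0, hw0, one_mul] at h4
      exact h4.symm
    have hz1 : (w⁻¹ * y') ^ Nat.card π.ker = 1 := by
      have := pow_card_eq_one' (G := π.ker) (x := ⟨_, hz⟩)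
      exact congrArg Subtype.val this
    have hz2 : w⁻¹ * y' = 1 := by
      have h3 : (Nat.card π.ker).Coprime (p ^ m) :=
        Nat.Coprime.pow_right _ ((Nat.Prime.coprime_iff_not_dvd hp.out).2 hkp).symm
      have h4 := Nat.eq_one_of_dvd_coprimes h3 (orderOf_dvd_of_pow_eq_one hz1) (orderOf_dvd_of_pow_eq_one hz0)
      exact orderOf_eq_one_iff.1 h4
    have h5 : y' = w := (inv_mul_eq_one.1 hz2).symm
    rw [h5]
    exact hw
  obtain ⟨g, hg⟩ := exists_conj_le T (H := (R' : Subgroup S').map ι) (R'.2.map ι)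
  have hgT : ∀ y ∈ R', g * ι y * g⁻¹ ∈ T := fun y hy => hg _ ⟨y, hy, rfl⟩
  let A₀ : Subgroup GG := ((R' : Subgroup S').map ι).map (MulAut.conj g).toMonoidHom
  have hA₀ : A₀ ≤ T := by
    rintro _ ⟨_, ⟨y, hy, rfl⟩, rfl⟩
    exact hgT y hy
  have hmemA : ∀ y ∈ R', g * ι y * g⁻¹ ∈ A₀ := fun y hy => ⟨_, ⟨y, hy, rfl⟩, rfl⟩
  let h₀ : GG := g * s * (φ g)⁻¹
  have hact : ∀ y ∈ R', ∀ y' : S', ι y' = s * φ (ι y) * s⁻¹ → h₀ * (g * ι y * g⁻¹) ^ e * h₀⁻¹ = g * ι y' * g⁻¹ := by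
    intro y hy y' h1
    rw [← hφ _ (hgT y hy), h1, map_mul, map_mul, map_inv]
    show g * s * (φ g)⁻¹ * (φ g * φ (ι y) * (φ g)⁻¹) * (g * s * (φ g)⁻¹)⁻¹ = _
    group
  have hinj : Function.Injective (fun t : A₀ => (t ^ e : A₀)) := by
    intro t t' htt
    have h1 : ((t : GG)) ^ e = (t' : GG) ^ e := congrArg Subtype.val htt
    rw [← hφ _ (hA₀ t.2), ← hφ _ (hA₀ t'.2)] at h1
    exact Subtype.ext (φ.injective h1)
  have hnorm : ∀ t ∈ A₀, h₀ * t * h₀⁻¹ ∈ A₀ := by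
    intro t ht
    obtain ⟨t', ht'⟩ := (Finite.surjective_of_injective hinj) ⟨t, ht⟩
    have h1 : (t' : GG) ^ e = t := congrArg Subtype.val ht'
    obtain ⟨_, ⟨y, hy, rfl⟩, h2⟩ := t'.2
    have h3 : g * ι y * g⁻¹ = t' := h2
    obtain ⟨y', hy', h4, _⟩ := step y hy
    rw [← h1, ← h3, hact y hy y' h4]
    exact hmemA y' hy'
  obtain ⟨n, hn, hn2⟩ := burnside T hT hA₀ hnorm
  obtain ⟨k₀, hk₀, hk₀'⟩ := exists_pow_centralizes T hT hn
  -- iteration
  have iter : ∀ m : ℕ, ∀ y ∈ R', ∃ y' ∈ R', g * ι y' * g⁻¹ = n ^ m * (g * ι y * g⁻¹) ^ e ^ m * (n ^ m)⁻¹ ∧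
      π y' = (a ^ m) (π y) := by
    intro m
    induction m with
    | zero =>
      intro y hy
      exact ⟨y, hy, by simp, by simp⟩
    | succ m ih =>
      intro y hy
      obtain ⟨y₁, hy₁, h1, h2⟩ := ih y hy
      obtain ⟨y₂, hy₂, h3, h4⟩ := step y₁ hy₁
      refine ⟨y₂, hy₂, ?_, ?_⟩
      · rw [← hact y₁ hy₁ y₂ h3, ← hn2 _ (pow_mem (hmemA y₁ hy₁) e), h1, conj_pow, ← pow_mul, ← pow_succ,
          pow_succ' n m]
        group
      · rw [h4, h2, pow_succ', MulAut.mul_apply]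
  have hk₀R : ∀ x ∈ R, (a ^ k₀) x = x ^ e ^ k₀ := by
    intro x hx
    obtain ⟨y, hy, rfl⟩ := hexR x hx
    obtain ⟨y', hy', h1, h2⟩ := iter k₀ y hy
    rw [hk₀' _ (pow_mem (hgT y hy) _), conj_pow] at h1
    have h3 : ι y' = ι (y ^ e ^ k₀) := by
      rw [map_pow]
      exact mul_left_cancel (mul_right_cancel h1)
    rw [← h2, hι h3, map_pow]
  -- `a` itself
  have hcop : Nat.Coprime k₀ (p ^ j) :=
    Nat.Coprime.pow_right _ ((Nat.Prime.coprime_iff_not_dvd hp.out).2 hk₀).symm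
  obtain ⟨k₁, hk₁⟩ : ∃ k₁ : ℕ, k₀ * k₁ ≡ 1 [MOD p ^ j] := by
    rcases Nat.eq_zero_or_pos j with rfl | hj
    · exact ⟨0, by rw [pow_zero]; exact Nat.modEq_one⟩
    · obtain ⟨m, hm⟩ := Nat.exists_mul_mod_eq_one_of_coprime hcop (Nat.one_lt_pow hj.ne' hp.out.one_lt)
      exact ⟨m, by rw [Nat.ModEq, hm.2, Nat.mod_eq_of_lt (Nat.one_lt_pow hj.ne' hp.out.one_lt)]⟩
  have haj : a ^ (k₀ * k₁) = a := by
    have h1 : a ^ (k₀ * k₁) = a ^ 1 := by
      rw [← pow_mod_orderOf a (k₀ * k₁), ← pow_mod_orderOf a 1,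
        (hk₁.of_dvd (orderOf_dvd_of_pow_eq_one ha) : k₀ * k₁ ≡ 1 [MOD orderOf a])]
    rw [h1, pow_one]
  have hfin : ∀ m : ℕ, ∀ x ∈ R, ((a ^ k₀) ^ m) x = x ^ (e ^ k₀) ^ m := by
    intro m
    induction m with
    | zero => intro x _; simp
    | succ m ih =>
      intro x hx
      rw [pow_succ', MulAut.mul_apply, ih x hx, hk₀R _ (pow_mem hx _), ← pow_mul, ← pow_succ]
  obtain ⟨c, hc⟩ := exists_conj_mem R hx
  refine ⟨(e ^ k₀) ^ k₁, ?_⟩
  have h1 := hfin k₁ _ hc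
  rw [← pow_mul, haj, map_mul, map_mul, map_inv, conj_pow] at h1
  have h2 : IsConj (a x) (a c * a x * (a c)⁻¹) := isConj_iff.2 ⟨a c, rfl⟩
  have h3 : IsConj (x ^ (e ^ k₀) ^ k₁) (c * x ^ (e ^ k₀) ^ k₁ * c⁻¹) := isConj_iff.2 ⟨c, rfl⟩
  rw [h1] at h2
  exact h2.trans h3.symm

end ambient

end Cfsg.Agent.H754.PQ
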