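import Mathlib.GroupTheory.Sylow
import Mathlib.LinearAlgebra.Matrix.GeneralLinearGroup.Card
import Mathlib.NumberTheory.Multiplicity
import Mathlib.FieldTheory.Finite.Basic
import Mathlib.LinearAlgebra.Matrix.Reindex
import Mathlib.FieldTheory.SplittingField.Construction
import Mathlib.RingTheory.RootsOfUnity.PrimitiveRoots
import Mathlib.LinearAlgebra.Matrix.Charpoly.Coeff

/-!
# S4981: a diagonal Sylow subgroup of `GL_n(K)`, `n < p`, `p ∣ |K| - 1` (helper754)

* `exists_diag_sylow`;
* `exists_big_field` : a finite extension of `F` over which given polynomials split, containing primitive `p`-th roots of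
  unity.
-/

set_option autoImplicit false

namespace Cfsg.Agent.H754.PQ

open Matrix
open scoped MatrixGroups

universe u

/-- the diagonal matrices -/
def diagHom (ι : Type*) [Fintype ι] [DecidableEq ι] (K : Type*) [Field K] : (ι → Kˣ) →* GL ι K where
  toFun d := ⟨Matrix.diagonal (fun i => (d i : K)), Matrix.diagonal (fun i => ((d i)⁻¹ : Kˣ)),
    by rw [Matrix.diagonal_mul_diagonal, ← Matrix.diagonal_one]; congr 1; funext i; exact (d i).mul_inv,
    by rw [Matrix.diagonal_mul_diagonal, ← Matrix.diagonal_one]; congr 1; funext i; exact (d i).inv_mul⟩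
  map_one' := by
    ext1
    show Matrix.diagonal (fun i => (((1 : ι → Kˣ) i : Kˣ) : K)) = 1
    rw [← Matrix.diagonal_one]
    rfl
  map_mul' d d' := by
    ext1
    show Matrix.diagonal (fun i => (((d * d') i : Kˣ) : K)) =
      Matrix.diagonal (fun i => (d i : K)) * Matrix.diagonal (fun i => (d' i : K))
    rw [Matrix.diagonal_mul_diagonal]
    rfl

theorem diagHom_apply {ι : Type*} [Fintype ι] [DecidableEq ι] {K : Type*} [Field K] (d : ι → Kˣ) :
    (diagHom ι K d : Matrix ι ι K) = Matrix.diagonal (fun i => (d i : K)) := rfl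

theorem diagHom_injective (ι : Type*) [Fintype ι] [DecidableEq ι] (K : Type*) [Field K] :
    Function.Injective (diagHom ι K) := by
  intro d d' h
  have h1 : Matrix.diagonal (fun i => (d i : K)) = Matrix.diagonal (fun i => (d' i : K)) := by
    rw [← diagHom_apply, ← diagHom_apply, h]
  have h2 := Matrix.diagonal_injective h1
  funext i
  exact Units.ext (congrFun h2 i)

theorem card_gl (ι : Type*) [Fintype ι] [DecidableEq ι] (K : Type*) [Field K] [Fintype K] :
    Nat.card (GL ι K) = ∏ i : Fin (Fintype.card ι), (Fintype.card K ^ Fintype.card ι - Fintype.card K ^ (i : ℕ)) := by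
  rw [← Matrix.card_GL_field]
  exact Nat.card_congr (Units.mapEquiv
    (Matrix.reindexAlgEquiv K K (Fintype.equivFin ι)).toRingEquiv.toMulEquiv).toEquiv

/-- the exponent of `p` in `|GL_n(K)|` -/
theorem padic_card_gl {p : ℕ} [hp : Fact p.Prime] (hp2 : p ≠ 2) (ι : Type*) [Fintype ι] [DecidableEq ι]
    (K : Type*) [Field K] [Fintype K] (hι : Fintype.card ι < p) (hK : p ∣ Fintype.card K - 1) :
    padicValNat p (Nat.card (GL ι K)) = Fintype.card ι * padicValNat p (Fintype.card K - 1) := by
  rw [card_gl]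
  set q := Fintype.card K with hq
  have hq1 : 1 < q := Fintype.one_lt_card
  have hpq : ¬ p ∣ q := by
    intro h
    have h1 : p ∣ q - (q - 1) := Nat.dvd_sub h hK
    rw [Nat.sub_sub_self hq1.le] at h1
    exact hp.out.one_lt.ne' (Nat.dvd_one.1 h1)
  have hfac : ∀ i : Fin (Fintype.card ι), padicValNat p (q ^ Fintype.card ι - q ^ (i : ℕ)) =
      padicValNat p (q - 1) := by
    intro i
    have hi : (i : ℕ) < Fintype.card ι := i.2
    have h1 : q ^ Fintype.card ι - q ^ (i : ℕ) = q ^ (i : ℕ) * (q ^ (Fintype.card ι - i) - 1) := by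
      rw [Nat.mul_sub, mul_one, ← pow_add, Nat.add_sub_cancel' hi.le]
    have h2 : Fintype.card ι - i ≠ 0 := by omega
    have h3 : q ^ (Fintype.card ι - i) - 1 ≠ 0 :=
      Nat.sub_ne_zero_of_lt (Nat.one_lt_pow h2 hq1)
    have h4 := padicValNat.pow_sub_pow (p := p) (hp.out.odd_of_ne_two hp2) (x := q) (y := 1) hq1 hK hpq h2
    rw [one_pow] at h4
    rw [h1, padicValNat.mul (pow_ne_zero _ (by omega)) h3, padicValNat.pow, padicValNat.eq_zero_of_not_dvd hpq,
      mul_zero, zero_add, h4, padicValNat.eq_zero_of_not_dvd (n := Fintype.card ι - i), add_zero]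
    intro hd
    exact absurd (Nat.le_of_dvd (Nat.pos_of_ne_zero h2) hd) (by omega)
  have hne : ∀ i ∈ (Finset.univ : Finset (Fin (Fintype.card ι))), q ^ Fintype.card ι - q ^ (i : ℕ) ≠ 0 :=
    fun i _ => Nat.sub_ne_zero_of_lt (Nat.pow_lt_pow_right hq1 i.2)
  have key : ∀ s : Finset (Fin (Fintype.card ι)),
      padicValNat p (∏ i ∈ s, (q ^ Fintype.card ι - q ^ (i : ℕ))) = s.card * padicValNat p (q - 1) := by
    intro s
    induction s using Finset.induction_on with
    | empty => simp
    | insert a s ha ih =>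
      rw [Finset.prod_insert ha, padicValNat.mul (hne a (Finset.mem_univ _))
        (Finset.prod_ne_zero_iff.2 fun i _ => hne i (Finset.mem_univ _)), ih, hfac, Finset.card_insert_of_notMem ha]
      ring
  rw [key, Finset.card_univ, Fintype.card_fin]

/-- **The diagonal Sylow subgroup of `GL_n(K)`.** -/
theorem exists_diag_sylow {p : ℕ} [hp : Fact p.Prime] (hp2 : p ≠ 2) (ι : Type*) [Fintype ι] [DecidableEq ι]
    (K : Type*) [Field K] [Fintype K] (hι : Fintype.card ι < p) (hK : p ∣ Fintype.card K - 1) :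
    ∃ T : Sylow p (GL ι K), ∀ t ∈ T, ∀ i j, i ≠ j → (t : Matrix ι ι K) i j = 0 := by
  classical
  obtain ⟨P⟩ : Nonempty (Sylow p (ι → Kˣ)) := inferInstance
  have hq1 : 1 < Fintype.card K := Fintype.one_lt_card
  have hpg : IsPGroup p ((P : Subgroup (ι → Kˣ)).map (diagHom ι K)) := P.2.map _
  have hcard : Nat.card ((P : Subgroup (ι → Kˣ)).map (diagHom ι K)) = Nat.card P :=
    Subgroup.card_map_of_injective (diagHom_injective ι K)
  have hcP : Nat.card P = p ^ (Fintype.card ι * padicValNat p (Fintype.card K - 1)) := by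
    have h1 : Nat.card (ι → Kˣ) = (Fintype.card K - 1) ^ Fintype.card ι := by
      rw [Nat.card_fun, Nat.card_eq_fintype_card, Nat.card_eq_fintype_card, Fintype.card_units]
    rw [P.card_eq_multiplicity, h1, Nat.factorization_pow, Finsupp.smul_apply, smul_eq_mul,
      Nat.factorization_def _ hp.out]
  have hidx : ¬ p ∣ ((P : Subgroup (ι → Kˣ)).map (diagHom ι K)).index := by
    intro hd
    have h1 := Subgroup.card_mul_index ((P : Subgroup (ι → Kˣ)).map (diagHom ι K))
    have h2 := padic_card_gl hp2 ι K hι hK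
    rw [← h1, padicValNat.mul Nat.card_pos.ne' Subgroup.index_ne_zero_of_finite, hcard, hcP,
      padicValNat.prime_pow] at h2
    have h3 : 1 ≤ padicValNat p ((P : Subgroup (ι → Kˣ)).map (diagHom ι K)).index :=
      one_le_padicValNat_of_dvd Subgroup.index_ne_zero_of_finite hd
    omega
  refine ⟨hpg.toSylow hidx, ?_⟩
  rintro _ ⟨d, _, rfl⟩ i j hij
  exact Matrix.diagonal_apply_ne _ hij

/-- **A big field.** -/
theorem exists_big_field {F : Type u} [Field F] [Finite F] {p : ℕ} (hp : p.Prime) (hpF : (p : F) ≠ 0)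
    (f : Polynomial F) (hf : f ≠ 0) :
    ∃ (K : Type u) (_ : Field K) (_ : Fintype K) (_ : Algebra F K),
      (f.map (algebraMap F K)).Splits ∧ p ∣ Fintype.card K - 1 := by
  classical
  have := Fintype.ofFinite F
  set g : Polynomial F := f * (Polynomial.X ^ p - 1) with hg
  have hX : (Polynomial.X ^ p - 1 : Polynomial F) ≠ 0 := Polynomial.X_pow_sub_C_ne_zero hp.pos 1
  let K := Polynomial.SplittingField g
  have hfin : Finite K := Module.finite_of_finite F
  have hK := Fintype.ofFinite K
  have hs0 : (g.map (algebraMap F K)).Splits := Polynomial.SplittingField.splits g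
  have hg2 : g.map (algebraMap F K) =
      f.map (algebraMap F K) * (Polynomial.X ^ p - 1 : Polynomial F).map (algebraMap F K) := by
    rw [← Polynomial.map_mul]
  have hs := hs0
  rw [hg2, Polynomial.splits_mul (Polynomial.map_ne_zero hf) (Polynomial.map_ne_zero hX)] at hs
  refine ⟨K, inferInstance, hK, inferInstance, hs.1, ?_⟩
  have h1 : (Polynomial.X ^ p - 1 : Polynomial F).map (algebraMap F K) = Polynomial.X ^ p - 1 := by simp
  have h2 := hs.2
  rw [h1] at h2
  have hpK : (p : K) ≠ 0 := by
    intro h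
    apply hpF
    apply (algebraMap F K).injective
    rw [map_natCast, h, map_zero]
  have h3 : (Polynomial.X ^ p - 1 : Polynomial K).Separable := Polynomial.X_pow_sub_one_separable_iff.2 hpK
  have h4 : Multiset.card (Polynomial.X ^ p - 1 : Polynomial K).roots = p := by
    rw [← h2.natDegree_eq_card_roots]
    exact Polynomial.natDegree_X_pow_sub_C (r := (1 : K))
  have h5 : (Polynomial.X ^ p - 1 : Polynomial K).roots.Nodup := Polynomial.nodup_roots h3
  obtain ⟨x, hx, hx1⟩ : ∃ x ∈ (Polynomial.X ^ p - 1 : Polynomial K).roots, x ≠ 1 := by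
    by_contra hcon
    push Not at hcon
    have h6 := Multiset.eq_replicate.2 ⟨h4, hcon⟩
    rw [h6] at h5
    have h7 := Multiset.nodup_iff_count_le_one.1 h5 1
    rw [Multiset.count_replicate_self] at h7
    exact absurd hp.one_lt (by omega)
  have hx2 : x ^ p = 1 := by
    have h6 := (Polynomial.mem_roots'.1 hx).2
    simpa [sub_eq_zero] using h6
  have hx0 : x ≠ 0 := by
    rintro rfl
    rw [zero_pow hp.ne_zero] at hx2
    exact zero_ne_one hx2
  have : Fact p.Prime := ⟨hp⟩
  have h8 : orderOf (Units.mk0 x hx0) = p := orderOf_eq_prime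
    (Units.ext (by rw [Units.val_pow_eq_pow_val, Units.val_mk0, hx2, Units.val_one]))
    (fun h => hx1 (by rw [← Units.val_mk0 hx0, h, Units.val_one]))
  rw [← Fintype.card_units, ← h8]
  exact orderOf_dvd_card

end Cfsg.Agent.H754.PQ
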