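import Cfsg.Agent.H754.PQ.Main
import Cfsg.Agent.H95.PQ.Congr

/-!
# S4981: `row_small` and `row_mult` (helper754)
-/

set_option autoImplicit false

open Polynomial Cfsg Subgroup

open scoped MatrixGroups

namespace Cfsg.Agent.H754.PQ

open Cfsg.Agent.H54.PQ Cfsg.Agent.H967.CopMat

universe u v w

/-- the congruence lemma C1 in the form `Congr` -/
theorem congr_of_inv {p : ℕ} [Fact p.Prime] (hp2 : p ≠ 2) {S : Type u} [Group S] [Finite S]
    {A Φ : Subgroup (MulAut S)} (hA : IsPGroup p A) (hinv : InvHyp p A Φ) : Congr p A Φ :=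
  fun _ hx h1 _ hf h2 _ hβ hβA => Cfsg.Agent.H95.PQ.congr_main hp2 hA hinv hx h1 hβ hβA hf h2

/-- ENGINE (classical groups, cross characteristic) -/
theorem row_small {p q : ℕ} [Fact p.Prime] [Fact q.Prime] {S : Type u} [Group S] [Finite S] {F : Type v} [Field F]
    [Finite F] (hpF : (p : F) ≠ 0) (Ψ : (F ≃+* F) →* MulAut S) {A Φ : Subgroup (MulAut S)} {φ : F ≃+* F}
    (hF : FSit p q Ψ A Φ φ) (hinv : InvHyp p A Φ) {ι : Type w} [Fintype ι] [DecidableEq ι]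
    (hι : Fintype.card ι < q) {G : Subgroup (GL ι F)} (hG : Stab G) (π : ↥G →* S) (hπ : Function.Surjective π)
    (hker : ∀ z ∈ π.ker, z ∈ center ↥G) (hkp : ¬ p ∣ Nat.card π.ker)
    (hΨ : ∀ (σ : F ≃+* F) (g : ↥G), π (fieldAut hG σ g) = Ψ σ (π g)) (hpS : p ∣ Nat.card S)
    (hq : q ∣ orderOf (Nat.card (Fx φ) : ZMod p)) : False :=
  row_small_congr hpF hF (fun hp2 => congr_of_inv hp2 hF.pA hinv) hι hG π hπ hker hkp hΨ hpS hq

/-- **the multiplicities** : the number of eigenvalues `μ` of `x ^ k` and of its image under the `q₀ ^ j`-th power agree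
modulo `p` -/
theorem row_mult {p q : ℕ} [Fact p.Prime] [Fact q.Prime] (hp2 : p ≠ 2) {S : Type u} [Group S] [Finite S]
    {F : Type v} [Field F] [Finite F] {Ψ : (F ≃+* F) →* MulAut S} {A Φ : Subgroup (MulAut S)} {φ : F ≃+* F}
    (hpF : (p : F) ≠ 0) (hF : FSit p q Ψ A Φ φ) (hinv : InvHyp p A Φ) {ι : Type} [Fintype ι]
    [DecidableEq ι] {G : Subgroup (GL ι F)} (hG : Stab G) (π : ↥G →* S) (hπ : Function.Surjective π)
    (hker : ∀ z ∈ π.ker, z ∈ center ↥G) (hkp : ¬ p ∣ Nat.card π.ker)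
    (hΨ : ∀ (σ : F ≃+* F) (g : ↥G), π (fieldAut hG σ g) = Ψ σ (π g))
    {K : Type v} [Field K] [Finite K] [DecidableEq K] [Algebra F K]
    (hsp : ∀ g ∈ G, ((g : Matrix ι ι F).charpoly.map (algebraMap F K)).Splits) {GG : Subgroup (GL ι K)}
    (hGG : Stab GG) (hle : ∀ g ∈ G, Matrix.GeneralLinearGroup.map (algebraMap F K) g ∈ GG) {T : Sylow p ↥GG}
    (hT : ∀ t ∈ T, ∀ i j, i ≠ j → ((t : GL ι K) : Matrix ι ι K) i j = 0) {k : ℕ}
    (hk : ∀ g : ↥G, (g ^ k) ^ p = 1) (hkk : ∀ z ∈ π.ker, z ^ k = 1) {x : ↥G} (hx : ∃ j : ℕ, x ^ p ^ j = 1) :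
    ∃ j : ℕ, ¬ q ∣ j ∧ ∀ μ : K, (p : ℤ) ∣ ((rts G.subtype K (x ^ k)).count μ : ℤ) -
      (((rts G.subtype K (x ^ k)).map (· ^ Nat.card (Fx φ) ^ j)).count μ : ℤ) :=
  row_mult_congr hpF hF (congr_of_inv hp2 hF.pA hinv) hG π hπ hker hkp hΨ hsp hGG hle hT hk hkk hx

end Cfsg.Agent.H754.PQ
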