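import Cfsg.Agent.H754.PQ.Wt
import Cfsg.Prelude.Def_LieTwisted

/-!
# S4981: the exceptional groups, `p ∣ Q² - 1`: the families (helper754)

* `two_chev` : `G₂, F₄, E₆, E₇, E₈` (and `D₄`);
* `two_twE6`, `two_twD4` : `²E₆(Q)`, `³D₄(Q)`;
* `two_twF4` : `²F₄(Q)`.
-/

set_option autoImplicit false

open Polynomial Cfsg Subgroup

open scoped MatrixGroups

namespace Cfsg.Agent.H754.PQ

open Cfsg.Lie Cfsg.Agent.ChevalleyStructure Cfsg.Agent.ChevalleyStructure.Elts
open Cfsg.Agent.H54.PQ Cfsg.Agent.H967.CopMat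
open Cfsg.Agent.Nodes.RGDFoldSL (wS hS coe_wS coe_hS map_hS psi psi_up psi_lo psi_hS psi_wS psi_mem map_up map_lo)
open Cfsg.Agent.ChevalleyStructure.SL2Hom (up lo mem_closure_SL2)

universe u v w

theorem longOK_G2 : LongOK chevG2 0 := ⟨by decide +kernel, by decide +kernel, by decide +kernel⟩
theorem longOK_D4 : LongOK chevD4 14 := ⟨by decide +kernel, by decide +kernel, by decide +kernel⟩
theorem longOK_F4 : LongOK chevF4 24 := ⟨by decide +kernel, by decide +kernel, by decide +kernel⟩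
theorem longOK_E6 : LongOK chevE6 39 := ⟨by decide +kernel, by decide +kernel, by decide +kernel⟩
theorem longOK_E7 : LongOK chevE7 63 := ⟨by decide +kernel, by decide +kernel, by decide +kernel⟩
theorem longOK_E8 : LongOK chevE8 120 := ⟨by decide +kernel, by decide +kernel, by decide +kernel⟩


/-- a subfield with `q` elements (from helper343, `H343/WitExc.lean`) -/
theorem exists_subfield (F : Type v) [Field F] [Fintype F] {q m : ℕ} (hq : IsPrimePow q) (hm : m ≠ 0)
    (hF : Fintype.card F = q ^ m) :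
    ∃ (k : Type) (_ : Field k) (_ : Fintype k) (ι : k →+* F), Fintype.card k = q ∧ ∀ x, (ι x) ^ q = ι x := by
  classical
  obtain ⟨p, n, hp, hn, rfl⟩ := (isPrimePow_nat_iff _).mp hq
  have : Fact p.Prime := ⟨hp⟩
  have hF' : Fintype.card F = p ^ (n * m) := by rw [hF, ← pow_mul]
  have hchar : CharP F p := by
    obtain ⟨r, hr⟩ := CharP.exists F
    obtain ⟨l, hrp, hl⟩ := FiniteField.card F r
    have h1 : p ∣ r ^ (l : ℕ) := by
      rw [← hl, hF']
      exact dvd_pow_self _ (Nat.mul_ne_zero hn.ne' hm)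
    have h2 : p = r := (Nat.prime_dvd_prime_iff_eq hp hrp).mp (hp.dvd_of_dvd_pow h1)
    subst h2
    exact hr
  let _ : Algebra (ZMod p) F := ZMod.algebra F p
  have h1 : Module.finrank (ZMod p) (GaloisField p n) = n := GaloisField.finrank p hn.ne'
  have h2 : Module.finrank (ZMod p) F = n * m := by
    have h3 : Fintype.card F = p ^ Module.finrank (ZMod p) F := by
      have := Module.card_eq_pow_finrank (K := ZMod p) (V := F)
      rwa [ZMod.card] at this
    exact Nat.pow_right_injective hp.two_le (h3.symm.trans hF')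
  obtain ⟨f⟩ := FiniteField.nonempty_algHom_of_finrank_dvd (F := ZMod p) (K := GaloisField p n) (L := F)
    (by rw [h1, h2]; exact dvd_mul_right _ _)
  let _ : Fintype (GaloisField p n) := Fintype.ofFinite _
  have hc : Fintype.card (GaloisField p n) = p ^ n := by
    rw [← Nat.card_eq_fintype_card]; exact GaloisField.card p n hn.ne'
  refine ⟨GaloisField p n, inferInstance, inferInstance, f.toRingHom, hc, fun x => ?_⟩
  rw [← map_pow, ← hc, FiniteField.pow_card]

theorem xG_mem_gen {D : ChevalleyDatum} (hD : InList D) {F : Type v} [Field F] {W : Set (List (ℕ × F))} {r : ℕ} {t : F}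
    (h : [(r, t)] ∈ W) : xG hD r t ∈ D.genSubgroup F W := by
  refine subset_closure ⟨[(r, t)], h, ?_⟩
  rw [wordMat_cons, wordMat_nil, mul_one]
  exact (eq_xG_iff hD _ r t).1 rfl

theorem wordG_mem_gen {D : ChevalleyDatum} (hD : InList D) {F : Type v} [Field F] {W : Set (List (ℕ × F))}
    {w : List (ℕ × F)} (h : w ∈ W) : wordG hD w ∈ D.genSubgroup F W :=
  subset_closure ⟨w, h, coe_wordG hD w⟩

theorem gen_le_group {D : ChevalleyDatum} (hD : InList D) {F : Type v} [Field F] (W : Set (List (ℕ × F))) :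
    D.genSubgroup F W ≤ D.group F := by
  refine (closure_le _).2 ?_
  rintro g ⟨w, _, hw⟩
  rw [(eq_wordG_iff hD g w).2 hw]
  exact wordG_mem_group hD w

theorem inD4 : InList chevD4 := by simp [InList]
theorem inF4 : InList chevF4 := by simp [InList]
theorem inE6 : InList chevE6 := by simp [InList]

theorem not_dvd_small {p e : ℕ} (hp7 : 7 < p) (he0 : e ≠ 0) (he : e ≤ 3) : ¬ p ∣ e := by
  intro h
  have := Nat.le_of_dvd (Nat.pos_of_ne_zero he0) h
  omega

section rows

variable {p q : ℕ} [hp : Fact p.Prime] [hq : Fact q.Prime] {S : Type u} [Group S] [Finite S]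
    {F : Type v} [Field F] [Finite F] {Ψ : (F ≃+* F) →* MulAut S} {A Φ : Subgroup (MulAut S)} {φ : F ≃+* F}

/-- **Chevalley groups**, `p ∣ |F|² - 1` -/
theorem two_chev {D : ChevalleyDatum} (hD : InList D) (hL : ∃ r, LongOK D r) (hpF : (p : F) ≠ 0)
    (hF : FSit p q Ψ A Φ φ) (hinv : InvHyp p A Φ) (hG : Stab (D.group F)) (π : ↥(D.group F) →* S)
    (hπ : Function.Surjective π) (hker : ∀ z ∈ π.ker, z ∈ center ↥(D.group F)) (hkp : ¬ p ∣ Nat.card π.ker)
    (hΨ : ∀ (σ : F ≃+* F) (g : ↥(D.group F)), π (fieldAut hG σ g) = Ψ σ (π g)) (hp7 : 7 < p) (h5 : 5 ≤ q)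
    (hqφ : q ∣ orderOf (Nat.card (Fx φ) : ZMod p)) (hpQ : p ∣ Nat.card F ^ 2 - 1) : False := by
  have := Fintype.ofFinite F
  obtain ⟨r, hr⟩ := hL
  exact two_long hD hpF hF hinv le_rfl hG π hπ hker hkp hΨ hp7 hqφ (Q := Nat.card F) (e := 1) (pow_one _).symm
    (not_dvd_small hp7 one_ne_zero (by norm_num)) hpQ (k₀ := F) (Nat.card_eq_fintype_card).symm h5 (RingHom.id F) hr
    (fun t => xG_mem_group hD _ _) (fun t => xG_mem_group hD _ _)

/-- **`²E₆(Q)`**, `p ∣ Q² - 1` -/
theorem two_twE6 {Q : ℕ} (hQ : IsPrimePow Q) (hcF : Nat.card F = Q ^ 2) (hpF : (p : F) ≠ 0)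
    (hF : FSit p q Ψ A Φ φ) (hinv : InvHyp p A Φ) (hG : Stab (twistedE6 F Q)) (π : ↥(twistedE6 F Q) →* S)
    (hπ : Function.Surjective π) (hker : ∀ z ∈ π.ker, z ∈ center ↥(twistedE6 F Q)) (hkp : ¬ p ∣ Nat.card π.ker)
    (hΨ : ∀ (σ : F ≃+* F) (g : ↥(twistedE6 F Q)), π (fieldAut hG σ g) = Ψ σ (π g)) (hp7 : 7 < p) (h5 : 5 ≤ q)
    (hqφ : q ∣ orderOf (Nat.card (Fx φ) : ZMod p)) (hpQ : p ∣ Q ^ 2 - 1) : False := by
  have := Fintype.ofFinite F
  obtain ⟨k, _, _, f, hk, hf⟩ := exists_subfield F hQ two_ne_zero (by rw [← Nat.card_eq_fintype_card, hcF])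
  refine two_long inE6 hpF hF hinv (gen_le_group inE6 _) hG π hπ hker hkp hΨ hp7 hqφ (Q := Q) (e := 2) hcF
    (not_dvd_small hp7 two_ne_zero (by norm_num)) hpQ hk h5 f longOK_E6 (fun t => xG_mem_gen inE6 ?_)
    (fun t => xG_mem_gen inE6 ?_)
  · exact Or.inl ⟨f t, hf t, 39, by simp [e6p4], rfl⟩
  · have h1 : chevE6.neg 39 = 32 := by decide +kernel
    rw [h1]
    exact Or.inl ⟨f t, hf t, 32, by simp [e6m4], rfl⟩

/-- **`³D₄(Q)`**, `p ∣ Q² - 1` -/
theorem two_twD4 {Q : ℕ} (hQ : IsPrimePow Q) (hcF : Nat.card F = Q ^ 3) (hpF : (p : F) ≠ 0)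
    (hF : FSit p q Ψ A Φ φ) (hinv : InvHyp p A Φ) (hG : Stab (twistedD4 F Q)) (π : ↥(twistedD4 F Q) →* S)
    (hπ : Function.Surjective π) (hker : ∀ z ∈ π.ker, z ∈ center ↥(twistedD4 F Q)) (hkp : ¬ p ∣ Nat.card π.ker)
    (hΨ : ∀ (σ : F ≃+* F) (g : ↥(twistedD4 F Q)), π (fieldAut hG σ g) = Ψ σ (π g)) (hp7 : 7 < p) (h5 : 5 ≤ q)
    (hqφ : q ∣ orderOf (Nat.card (Fx φ) : ZMod p)) (hpQ : p ∣ Q ^ 2 - 1) : False := by
  have := Fintype.ofFinite F
  obtain ⟨k, _, _, f, hk, hf⟩ := exists_subfield F hQ three_ne_zero (by rw [← Nat.card_eq_fintype_card, hcF])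
  refine two_long inD4 hpF hF hinv (gen_le_group inD4 _) hG π hπ hker hkp hΨ hp7 hqφ (Q := Q) (e := 3) hcF
    (not_dvd_small hp7 three_ne_zero le_rfl) hpQ hk h5 f longOK_D4 (fun t => xG_mem_gen inD4 ?_)
    (fun t => xG_mem_gen inD4 ?_)
  · exact Or.inl ⟨f t, hf t, 14, by simp [d4p2], rfl⟩
  · have h1 : chevD4.neg 14 = 9 := by decide +kernel
    rw [h1]
    exact Or.inl ⟨f t, hf t, 9, by simp [d4m2], rfl⟩

end rows

/-! ### `²F₄(Q)` -/

theorem comm_terms {D : ChevalleyDatum} (hD : InList D) {F : Type v} [Field F] {r s : ℕ} (hr : r < D.nroots)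
    (hs : s < D.nroots) (hrs : s ≠ r) (hneg : s ≠ D.neg r) (h : D.commTerms r s = []) (t u : F) :
    xG hD r t * xG hD s u = xG hD s u * xG hD r t := by
  apply Units.ext
  have h1 := Cfsg.Agent.S1025.result (F := F) D hD r s hr hs hrs hneg t u
  rw [ChevalleyDatum.commWord, h, List.map_nil, wordMat_nil, mul_one] at h1
  exact h1.symm

theorem comm_psi {D : ChevalleyDatum} (hD : InList D) {F : Type v} [Field F] {r s : ℕ} (hr : r < D.nroots)
    (hs : s < D.nroots) (h : ∀ r' ∈ [r, D.neg r], ∀ s' ∈ [s, D.neg s], r' < D.nroots ∧ s' < D.nroots ∧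
      s' ≠ r' ∧ s' ≠ D.neg r' ∧ D.commTerms r' s' = []) (a b : Matrix.SpecialLinearGroup (Fin 2) F) :
    psi hD F r a * psi hD F s b = psi hD F s b * psi hD F r a := by
  have hg : ∀ r' ∈ [r, D.neg r], ∀ s' ∈ [s, D.neg s], ∀ t u : F,
      xG hD r' t * xG hD s' u = xG hD s' u * xG hD r' t := by
    intro r' hr' s' hs' t u
    obtain ⟨h1, h2, h3, h4, h5⟩ := h r' hr' s' hs'
    exact comm_terms hD h1 h2 h3 h4 h5 t u
  have ha := mem_closure_SL2 a
  induction ha using closure_induction with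
  | mem x hx =>
    have hb := mem_closure_SL2 b
    induction hb using closure_induction with
    | mem y hy =>
      rcases hx with ⟨t, rfl⟩ | ⟨t, rfl⟩ <;> rcases hy with ⟨u, rfl⟩ | ⟨u, rfl⟩
      · rw [psi_up hD hr, psi_up hD hs]; exact hg _ (by simp) _ (by simp) t u
      · rw [psi_up hD hr, psi_lo hD hs]; exact hg _ (by simp) _ (by simp) t u
      · rw [psi_lo hD hr, psi_up hD hs]; exact hg _ (by simp) _ (by simp) t u
      · rw [psi_lo hD hr, psi_lo hD hs]; exact hg _ (by simp) _ (by simp) t u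
    | one => rw [map_one, mul_one, one_mul]
    | mul y z _ _ hy hz => rw [map_mul, ← mul_assoc, hy, mul_assoc, hz, mul_assoc]
    | inv y _ hy =>
      rw [map_inv, eq_inv_mul_iff_mul_eq, ← mul_assoc, ← hy, mul_assoc, mul_inv_cancel, mul_one]
  | one => rw [map_one, mul_one, one_mul]
  | mul y z _ _ hy hz => rw [map_mul, mul_assoc, hz, ← mul_assoc, hy, mul_assoc]
  | inv y _ hy =>
    rw [map_inv, inv_mul_eq_iff_eq_mul, ← mul_assoc, hy, mul_assoc, mul_inv_cancel, mul_one]


theorem comm_F4 {F : Type v} [Field F] (a b : Matrix.SpecialLinearGroup (Fin 2) F) :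
    psi inF4 F 33 a * psi inF4 F 24 b = psi inF4 F 24 b * psi inF4 F 33 a :=
  comm_psi inF4 (by decide +kernel) (by decide +kernel) (by decide +kernel) a b

/-- the root `SL₂` of type `A₁ × A₁` of `²F₄` -/
noncomputable def kap (F : Type v) [Field F] (θ : F →+* F) :
    Matrix.SpecialLinearGroup (Fin 2) F →* GL chevF4.Idx F where
  toFun M := psi inF4 F 33 (Matrix.SpecialLinearGroup.map θ M) * psi inF4 F 24 M
  map_one' := by rw [map_one, map_one, map_one, one_mul]
  map_mul' a b := by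
    rw [map_mul, map_mul, map_mul, mul_assoc, ← mul_assoc (psi inF4 F 33 (Matrix.SpecialLinearGroup.map θ b)), comm_F4,
      mul_assoc, ← mul_assoc, ← mul_assoc]

theorem kap_apply {F : Type v} [Field F] (θ : F →+* F) (M : Matrix.SpecialLinearGroup (Fin 2) F) :
    kap F θ M = psi inF4 F 33 (Matrix.SpecialLinearGroup.map θ M) * psi inF4 F 24 M := rfl

/-- the weights -/
def wt2 (e : ℕ) : chevF4.Idx → ℤ :=
  Sum.elim (fun _ => 0) (fun s => e * HMatDiagAll.expo chevF4 33 s.val + HMatDiagAll.expo chevF4 24 s.val)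

theorem kap_dg {K : Type v} [Field K] {θ : K →+* K} {e : ℕ} (hθ : ∀ x, θ x = x ^ e) (c : Kˣ) :
    ((kap K θ (SLTwo.dg c) : GL chevF4.Idx K) : Matrix chevF4.Idx chevF4.Idx K) =
      Matrix.diagonal (fun i => (c : K) ^ wt2 e i) := by
  have h1 : Matrix.SpecialLinearGroup.map θ (SLTwo.dg c) = SLTwo.dg (c ^ e) := by
    rw [SLTwo.dg_eq, SLTwo.dg_eq, map_hS, hθ, Units.val_pow_eq_pow_val]
  rw [kap_apply, h1, Units.val_mul, coe_psi_dg inF4 (by decide +kernel), coe_psi_dg inF4 (by decide +kernel),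
    Matrix.diagonal_mul_diagonal]
  congr 1
  funext i
  rw [Units.val_pow_eq_pow_val, ← zpow_natCast, ← zpow_mul, ← zpow_add₀ c.ne_zero]
  congr 1
  rcases i with i | i
  · show (e : ℤ) * 0 + 0 = 0
    norm_num
  · rfl

theorem hasWt_kap {p : ℕ} (hp : p.Prime) (hp2 : p ≠ 2) {F : Type v} [Field F] [Finite F] [CharP F 2] {m : ℕ} :
    HasWt p (kap F (iterateFrobenius F 2 m)) (wt2 (2 ^ m)) := by
  intro K _ _ _ ζ hζ N hN hN1
  have hK : CharP K 2 := charP_of_injective_algebraMap (algebraMap F K).injective 2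
  obtain ⟨k, c, hc, hc1, h⟩ := SLTwo.exists_conj hp hp2 hζ
    (g := Matrix.SpecialLinearGroup.map (algebraMap F K) N)
    (by rw [← map_pow, hN, map_one])
    (fun h => hN1 (slmap_injective (algebraMap F K) (by rw [h, map_one])))
  have h1 : Matrix.GeneralLinearGroup.map (algebraMap F K) (kap F (iterateFrobenius F 2 m) N) =
      kap K (iterateFrobenius K 2 m) (Matrix.SpecialLinearGroup.map (algebraMap F K) N) := by
    rw [kap_apply, kap_apply, map_mul, glmap_psi inF4 _ (by decide +kernel), glmap_psi inF4 _ (by decide +kernel)]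
    congr 2
    apply Subtype.ext
    ext i j
    show algebraMap F K (iterateFrobenius F 2 m ((N : Matrix (Fin 2) (Fin 2) F) i j)) =
      iterateFrobenius K 2 m (algebraMap F K ((N : Matrix (Fin 2) (Fin 2) F) i j))
    rw [iterateFrobenius_def, iterateFrobenius_def, map_pow]
  refine ⟨(c : K), kap K (iterateFrobenius K 2 m) k, ?_, ?_, ?_⟩
  · rw [← Units.val_pow_eq_pow_val, hc, Units.val_one]
  · intro h1
    exact hc1 (Units.ext (h1.trans Units.val_one.symm))
  · rw [h1, ← map_inv, ← map_mul, ← map_mul, h]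
    exact kap_dg (fun x => iterateFrobenius_def 2 m x) c

/-- the negative -/
def ng : chevF4.Idx → chevF4.Idx := Sum.elim Sum.inl fun s => Sum.inr ⟨chevF4.neg s.val % chevF4.nroots, Nat.mod_lt _ (by decide +kernel)⟩

theorem ng_facts : ∀ s : Fin chevF4.nroots, chevF4.neg s.val < chevF4.nroots ∧ chevF4.neg (chevF4.neg s.val) = s.val ∧
    HMatDiagAll.expo chevF4 33 (chevF4.neg s.val) = - HMatDiagAll.expo chevF4 33 s.val ∧
    HMatDiagAll.expo chevF4 24 (chevF4.neg s.val) = - HMatDiagAll.expo chevF4 24 s.val := by decide +kernel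

theorem ng_ng (i : chevF4.Idx) : ng (ng i) = i := by
  rcases i with i | i
  · rfl
  · obtain ⟨h1, h2, _⟩ := ng_facts i
    apply congrArg Sum.inr
    apply Fin.ext
    show chevF4.neg (chevF4.neg i.val % chevF4.nroots) % chevF4.nroots = i.val
    rw [Nat.mod_eq_of_lt h1, h2]
    exact Nat.mod_eq_of_lt i.2

theorem wt2_ng (e : ℕ) (i : chevF4.Idx) : wt2 e (ng i) = - wt2 e i := by
  rcases i with i | i
  · rfl
  · obtain ⟨h1, _, h3, h4⟩ := ng_facts i
    show (e : ℤ) * HMatDiagAll.expo chevF4 33 (chevF4.neg i.val % chevF4.nroots) +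
      HMatDiagAll.expo chevF4 24 (chevF4.neg i.val % chevF4.nroots) =
        - ((e : ℤ) * HMatDiagAll.expo chevF4 33 i.val + HMatDiagAll.expo chevF4 24 i.val)
    rw [Nat.mod_eq_of_lt h1, h3, h4]
    ring

theorem card_six : (Finset.univ.filter fun s : Fin chevF4.nroots => HMatDiagAll.expo chevF4 33 s.val = 0 ∧
    HMatDiagAll.expo chevF4 24 s.val = 1).card = 6 := by decide +kernel

theorem card_four : (Finset.univ.filter fun s : Fin chevF4.nroots => HMatDiagAll.expo chevF4 33 s.val = 0 ∧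
    HMatDiagAll.expo chevF4 24 s.val = 0).card = 4 := by decide +kernel


theorem sub_dvd_symm {p : ℕ} (e : ℕ) (b : ℤ) :
    (Finset.univ.filter fun i : chevF4.Idx => (p : ℤ) ∣ wt2 e i - b).card =
      (Finset.univ.filter fun i : chevF4.Idx => (p : ℤ) ∣ wt2 e i + b).card := by
  refine Finset.card_bij' (fun i _ => ng i) (fun i _ => ng i) ?_ ?_ (fun i _ => ng_ng i) (fun i _ => ng_ng i)
  · intro i hi
    rw [Finset.mem_filter] at hi ⊢
    refine ⟨Finset.mem_univ _, ?_⟩
    have h1 : wt2 e (ng i) + b = -(wt2 e i - b) := by rw [wt2_ng]; ring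
    rw [h1]
    exact (dvd_neg).2 hi.2
  · intro i hi
    rw [Finset.mem_filter] at hi ⊢
    refine ⟨Finset.mem_univ _, ?_⟩
    have h1 : wt2 e (ng i) - b = -(wt2 e i + b) := by rw [wt2_ng]; ring
    rw [h1]
    exact (dvd_neg).2 hi.2

theorem six_le {p : ℕ} (e : ℕ) : 6 ≤ (Finset.univ.filter fun i : chevF4.Idx => (p : ℤ) ∣ wt2 e i - 1).card := by
  rw [← card_six, ← Finset.card_map (Function.Embedding.inr (α := Fin chevF4.rank) (β := Fin chevF4.nroots))]
  refine Finset.card_le_card ?_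
  intro i hi
  rw [Finset.mem_map] at hi
  obtain ⟨s, hs, rfl⟩ := hi
  rw [Finset.mem_filter] at hs ⊢
  refine ⟨Finset.mem_univ _, ?_⟩
  have h1 : wt2 e (Sum.inr s) = 1 := by
    show (e : ℤ) * HMatDiagAll.expo chevF4 33 s.val + HMatDiagAll.expo chevF4 24 s.val = 1
    rw [hs.2.1, hs.2.2]
    norm_num
  show (p : ℤ) ∣ wt2 e (Sum.inr s) - 1
  rw [h1, sub_self]
  exact dvd_zero _

theorem le_22 {p : ℕ} (hp2 : 2 < p) (e : ℕ) :
    (Finset.univ.filter fun i : chevF4.Idx => (p : ℤ) ∣ wt2 e i - 1).card ≤ 22 := by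
  set Z1 := Finset.univ.filter fun i : chevF4.Idx => (p : ℤ) ∣ wt2 e i - 1 with hZ1
  set Z2 := Finset.univ.filter fun i : chevF4.Idx => (p : ℤ) ∣ wt2 e i + 1 with hZ2
  set Z0 := Finset.univ.filter fun i : chevF4.Idx => wt2 e i = 0 with hZ0
  have h12 : Z1.card = Z2.card := sub_dvd_symm e 1
  have h0 : 8 ≤ Z0.card := by
    have h1 : ((Finset.univ : Finset (Fin chevF4.rank)).map (Function.Embedding.inl (β := Fin chevF4.nroots)) ∪
        (Finset.univ.filter fun s : Fin chevF4.nroots => HMatDiagAll.expo chevF4 33 s.val = 0 ∧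
          HMatDiagAll.expo chevF4 24 s.val = 0).map (Function.Embedding.inr (α := Fin chevF4.rank))) ⊆ Z0 := by
      intro i hi
      rw [Finset.mem_union, Finset.mem_map, Finset.mem_map] at hi
      rw [hZ0, Finset.mem_filter]
      refine ⟨Finset.mem_univ _, ?_⟩
      rcases hi with ⟨s, _, rfl⟩ | ⟨s, hs, rfl⟩
      · rfl
      · rw [Finset.mem_filter] at hs
        show (e : ℤ) * HMatDiagAll.expo chevF4 33 s.val + HMatDiagAll.expo chevF4 24 s.val = 0
        rw [hs.2.1, hs.2.2]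
        norm_num
    have h2 := Finset.card_le_card h1
    rw [Finset.card_union_of_disjoint, Finset.card_map, Finset.card_map, card_four, Finset.card_univ, Fintype.card_fin]
      at h2
    · exact h2
    · rw [Finset.disjoint_left]
      intro i hi hi'
      rw [Finset.mem_map] at hi hi'
      obtain ⟨a, _, rfl⟩ := hi
      obtain ⟨b, _, hb⟩ := hi'
      exact absurd hb (by simp)
  have hd12 : Disjoint Z1 Z2 := by
    rw [Finset.disjoint_left]
    intro i h1 h2
    rw [hZ1, Finset.mem_filter] at h1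
    rw [hZ2, Finset.mem_filter] at h2
    have h3 := dvd_sub h2.2 h1.2
    have h4 : wt2 e i + 1 - (wt2 e i - 1) = 2 := by ring
    rw [h4] at h3
    have := Int.le_of_dvd (by norm_num) h3
    omega
  have hd0 : Disjoint (Z1 ∪ Z2) Z0 := by
    rw [Finset.disjoint_left]
    intro i h1 h2
    rw [hZ0, Finset.mem_filter] at h2
    rw [Finset.mem_union, hZ1, hZ2, Finset.mem_filter, Finset.mem_filter, h2.2] at h1
    have h3 : (p : ℤ) ∣ 1 := by
      rcases h1 with h1 | h1
      · have h4 := h1.2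
        rw [zero_sub] at h4
        exact (dvd_neg).1 h4
      · have h4 := h1.2
        rwa [zero_add] at h4
    have := Int.le_of_dvd (by norm_num) h3
    omega
  have h3 := Finset.card_le_univ ((Z1 ∪ Z2) ∪ Z0)
  rw [Finset.card_union_of_disjoint hd0, Finset.card_union_of_disjoint hd12] at h3
  have h4 : Fintype.card chevF4.Idx = 52 := by
    rw [Fintype.card_sum, Fintype.card_fin, Fintype.card_fin]
    rfl
  omega

theorem prime_ge {p q : ℕ} (hp : p.Prime) (hp7 : 7 < p) (hq : q.Prime) (h7 : 7 ≤ q) (h : q ∣ p - 1) : 22 < p := by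
  by_contra h1
  have h2 : p ≤ 22 := by omega
  have h3 : q ≤ p - 1 := Nat.le_of_dvd (by omega) h
  interval_cases p <;> first | (exact absurd hp (by decide)) | skip
  all_goals
    interval_cases q <;> first | (exact absurd hq (by decide)) | (exact absurd h (by decide))

section rowF

variable {p q : ℕ} [hp : Fact p.Prime] [hq : Fact q.Prime] {S : Type u} [Group S] [Finite S]
    {F : Type v} [Field F] [Finite F] {Ψ : (F ≃+* F) →* MulAut S} {A Φ : Subgroup (MulAut S)} {φ : F ≃+* F}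

/-- **`²F₄(Q)`**, `p ∣ Q² - 1`, `Q = |F| = 2 ^ (2 m + 1)` -/
theorem two_twF4 {m : ℕ} (hcF : Nat.card F = 2 ^ (2 * m + 1)) (hpF : (p : F) ≠ 0)
    (hF : FSit p q Ψ A Φ φ) (hinv : InvHyp p A Φ) (hG : Stab (twistedF4 F (2 ^ m))) (π : ↥(twistedF4 F (2 ^ m)) →* S)
    (hπ : Function.Surjective π) (hker : ∀ z ∈ π.ker, z ∈ center ↥(twistedF4 F (2 ^ m))) (hkp : ¬ p ∣ Nat.card π.ker)
    (hΨ : ∀ (σ : F ≃+* F) (g : ↥(twistedF4 F (2 ^ m))), π (fieldAut hG σ g) = Ψ σ (π g)) (hp7 : 7 < p) (h7 : 7 ≤ q)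
    (hqφ : q ∣ orderOf (Nat.card (Fx φ) : ZMod p)) (hpQ : p ∣ Nat.card F ^ 2 - 1) : False := by
  have := Fintype.ofFinite F
  obtain ⟨r, hr⟩ := CharP.exists F
  have hrp : Fact r.Prime := ⟨CharP.char_is_prime F r⟩
  obtain ⟨n, hrn, hn⟩ := FiniteField.card F r
  have hr2 : r = 2 := by
    have h1 : r ∣ 2 ^ (2 * m + 1) := by
      rw [← hcF, Nat.card_eq_fintype_card, hn]
      exact dvd_pow_self r n.pos.ne'
    exact (Nat.prime_dvd_prime_iff_eq hrp.out Nat.prime_two).1 (hrp.out.dvd_of_dvd_pow h1)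
  subst hr2
  have hq23 : 22 < p := by
    refine prime_ge hp.out hp7 hq.out h7 (hqφ.trans (ZMod.orderOf_dvd_card_sub_one ?_))
    rw [Ne, ZMod.natCast_eq_zero_iff]
    have hr0 : CharP (Fx φ) 2 := (algebraMap (Fx φ) F).charP (algebraMap (Fx φ) F).injective 2
    have := Fintype.ofFinite (Fx φ)
    obtain ⟨a, _, ha⟩ := FiniteField.card (Fx φ) 2
    rw [Nat.card_eq_fintype_card, ha]
    intro h
    have := Nat.le_of_dvd (by norm_num) (hp.out.dvd_of_dvd_pow h)
    omega
  set θ := iterateFrobenius F 2 m with hθ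
  have hmem : ∀ g, kap F θ g ∈ twistedF4 F (2 ^ m) := by
    intro g
    have h := mem_closure_SL2 g
    induction h using closure_induction with
    | mem x hx =>
      rcases hx with ⟨t, rfl⟩ | ⟨t, rfl⟩
      · rw [kap_apply, map_up, psi_up inF4 (by decide +kernel), psi_up inF4 (by decide +kernel), iterateFrobenius_def]
        have h1 : xG inF4 33 (t ^ 2 ^ m) * xG inF4 24 t = wordG inF4 [(33, t ^ 2 ^ m), (24, t)] := by
          rw [wordG_cons, wordG_cons, wordG_nil, mul_one]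
        rw [h1]
        exact wordG_mem_gen inF4 (Or.inl ⟨t, Or.inl rfl⟩)
      · rw [kap_apply, map_lo, psi_lo inF4 (by decide +kernel), psi_lo inF4 (by decide +kernel), iterateFrobenius_def]
        have e1 : chevF4.neg 33 = 14 := by decide +kernel
        have e2 : chevF4.neg 24 = 23 := by decide +kernel
        rw [e1, e2]
        have h1 : xG inF4 14 (t ^ 2 ^ m) * xG inF4 23 t = wordG inF4 [(14, t ^ 2 ^ m), (23, t)] := by
          rw [wordG_cons, wordG_cons, wordG_nil, mul_one]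
        rw [h1]
        exact wordG_mem_gen inF4 (Or.inl ⟨t, Or.inr rfl⟩)
    | one => rw [map_one]; exact one_mem _
    | mul x y _ _ hx hy => rw [map_mul]; exact mul_mem hx hy
    | inv x _ hx => rw [map_inv]; exact inv_mem hx
  have hE1 : ∃ i, ¬ (p : ℤ) ∣ wt2 (2 ^ m) i := by
    have h1 := six_le (p := p) (2 ^ m)
    obtain ⟨i, hi⟩ := Finset.card_pos.1 (lt_of_lt_of_le (by norm_num) h1)
    rw [Finset.mem_filter] at hi
    refine ⟨i, fun h2 => ?_⟩
    have h3 := dvd_sub h2 hi.2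
    rw [sub_sub_cancel] at h3
    have := Int.le_of_dvd (by norm_num) h3
    omega
  refine two_many inF4 hpF hF hinv (gen_le_group inF4 _) hG π hπ hker hkp hΨ hp7 hqφ (Q := Nat.card F) (e := 1)
    (pow_one _).symm (not_dvd_small hp7 one_ne_zero (by norm_num)) hpQ (k₀ := F) (Nat.card_eq_fintype_card).symm hmem
    (hasWt_kap hp.out (by omega)) hE1 (by omega) (a := 1) ?_ (N := 6) (by norm_num) (six_le _)
    (lt_of_le_of_lt (le_22 (by omega) _) hq23) (fun b => sub_dvd_symm _ b) ?_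
  · intro h
    have := Int.le_of_dvd (by norm_num) h
    omega
  · have h4 : Fintype.card chevF4.Idx = 52 := by
      rw [Fintype.card_sum, Fintype.card_fin, Fintype.card_fin]
      rfl
    omega

end rowF

end Cfsg.Agent.H754.PQ
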