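import Cfsg.Agent.H54.PQ.Frame
import Cfsg.Agent.H754.PQ.Eng

/-!
# S4981: the engine in the frame `FSit` (helper754)

* `exists_frob_pow` : the field automorphism `φ` of `q`-power order is `x ↦ x ^ (q₀ ^ j)`, `q₀ = |Fx φ|`, `q ∤ j`;
* `row_mult_congr`, `row_small_congr` : the two theorems of the engine from the congruence lemma `Congr p A Φ`.
-/

set_option autoImplicit false

open Polynomial Cfsg Subgroup

open scoped MatrixGroups

namespace Cfsg.Agent.H754.PQ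

open Cfsg.Agent.H54.PQ Cfsg.Agent.H967.CopMat

universe u v w

/-- `φ` as a power of the Frobenius automorphism over its fixed field -/
theorem exists_frob_pow {q : ℕ} [hq : Fact q.Prime] {F : Type v} [Field F] [Finite F] {φ : F ≃+* F}
    (hφ : ∃ k : ℕ, orderOf φ = q ^ k) :
    ∃ j : ℕ, ¬ q ∣ j ∧ ∀ x : F, φ x = x ^ Nat.card (Fx φ) ^ j := by
  classical
  have := Fintype.ofFinite F
  have := Fintype.ofFinite (Fx φ)
  let σ : F ≃ₐ[Fx φ] F := AlgEquiv.ofRingEquiv (f := φ) (fun x => x.2)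
  have hcard : Nat.card F = Nat.card (Fx φ) ^ orderOf φ := card_Fx φ
  obtain ⟨k, hk⟩ := hφ
  have hfr : ∀ (n : ℕ) (x : F), (FiniteField.frobeniusAlgEquivOfAlgebraic (Fx φ) F ^ n) x =
      x ^ Nat.card (Fx φ) ^ n := by
    intro n x
    rw [AlgEquiv.coe_pow, FiniteField.coe_frobeniusAlgEquivOfAlgebraic_iterate, Nat.card_eq_fintype_card]
  rcases Nat.eq_zero_or_pos k with hk0 | hk0
  · refine ⟨1, hq.out.not_dvd_one, fun x => ?_⟩
    rw [hk0, pow_zero] at hk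
    have h1 : φ = 1 := orderOf_eq_one_iff.1 hk
    rw [hk, pow_one] at hcard
    rw [pow_one, ← hcard, Nat.card_eq_fintype_card, FiniteField.pow_card, h1]
    rfl
  · obtain ⟨n, hn⟩ := (FiniteField.bijective_frobeniusAlgEquivOfAlgebraic_pow (Fx φ) F).2 σ
    have h0 : ∀ (m : ℕ) (x : F), (φ ^ m) x = x ^ Nat.card (Fx φ) ^ ((n : ℕ) * m) := by
      intro m
      induction m with
      | zero => intro x; simp
      | succ m ih =>
        intro x
        have h1 : φ x = x ^ Nat.card (Fx φ) ^ (n : ℕ) := by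
          have h2 : φ x = σ x := rfl
          rw [h2, ← hn]
          exact hfr _ x
        rw [pow_succ, RingAut.mul_apply, ih, h1, ← pow_mul, ← pow_add, Nat.mul_succ, add_comm]
    refine ⟨n, fun hqn => ?_, fun x => by have := h0 1 x; rwa [pow_one, mul_one] at this⟩
    obtain ⟨c, hc⟩ := hqn
    have h2 : φ ^ q ^ (k - 1) = 1 := by
      ext x
      rw [h0, hc]
      have e1 : q * c * q ^ (k - 1) = q ^ k * c := by
        rw [mul_right_comm, ← pow_succ', Nat.sub_add_cancel hk0]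
      rw [e1, pow_mul, ← hk, ← hcard]
      have h3 : ∀ m : ℕ, x ^ Nat.card F ^ m = x := by
        intro m
        rw [Nat.card_eq_fintype_card]
        exact FiniteField.pow_card_pow m x
      exact h3 c
    have h3 : q ^ k ∣ q ^ (k - 1) := by
      rw [← hk]
      exact orderOf_dvd_of_pow_eq_one h2
    have h4 := (Nat.pow_dvd_pow_iff_le_right hq.out.one_lt).1 h3
    omega

/-- the order of a power -/
theorem dvd_orderOf_pow {q : ℕ} (hq : q.Prime) {M : Type*} [Monoid M] {x : M} {j : ℕ} (hj : ¬ q ∣ j)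
    (h : q ∣ orderOf x) : q ∣ orderOf (x ^ j) := by
  have hj0 : j ≠ 0 := by
    rintro rfl
    exact hj (dvd_zero q)
  rw [orderOf_pow' x hj0]
  have h1 : orderOf x / Nat.gcd (orderOf x) j * Nat.gcd (orderOf x) j = orderOf x :=
    Nat.div_mul_cancel (Nat.gcd_dvd_left _ _)
  rw [← h1] at h
  rcases (Nat.Prime.dvd_mul hq).1 h with h2 | h2
  · exact h2
  · exact absurd (h2.trans (Nat.gcd_dvd_right _ _)) hj

section frame

variable {p q : ℕ} [hp : Fact p.Prime] [hqp : Fact q.Prime] {S : Type u} [Group S] [Finite S] {F : Type v} [Field F]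
    [Finite F] {Ψ : (F ≃+* F) →* MulAut S} {A Φ : Subgroup (MulAut S)} {φ : F ≃+* F}

omit hp hqp [Finite S] [Finite F] in
/-- elements of `A` are semilinear -/
theorem semi_of_fsit (hF : FSit p q Ψ A Φ φ) {ι : Type*} [Fintype ι] [DecidableEq ι] {G : Subgroup (GL ι F)}
    (hG : Stab G) {π : ↥G →* S} (hπ : Function.Surjective π)
    (hΨ : ∀ (σ : F ≃+* F) (g : ↥G), π (fieldAut hG σ g) = Ψ σ (π g)) {a : MulAut S} (ha : a ∈ A) :
    ∃ (γ : F ≃+* F) (s : ↥G), ∀ y : ↥G, π (s * fieldAut hG γ y * s⁻¹) = a (π y) := by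
  obtain ⟨s, γ, k, _, rfl⟩ := hF.a a ha
  obtain ⟨s', rfl⟩ := hπ s
  refine ⟨γ, s', fun y => ?_⟩
  rw [map_mul, map_mul, hΨ, map_inv, MulAut.mul_apply, MulAut.conj_apply]

/-- **the multiplicities**, in the frame -/
theorem row_mult_congr (hpF : (p : F) ≠ 0) (hF : FSit p q Ψ A Φ φ) (hC : Congr p A Φ) {ι : Type} [Fintype ι]
    [DecidableEq ι] {G : Subgroup (GL ι F)} (hG : Stab G) (π : ↥G →* S) (hπ : Function.Surjective π)
    (hker : ∀ z ∈ π.ker, z ∈ center ↥G) (hkp : ¬ p ∣ Nat.card π.ker)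
    (hΨ : ∀ (σ : F ≃+* F) (g : ↥G), π (fieldAut hG σ g) = Ψ σ (π g))
    {K : Type v} [Field K] [Finite K] [DecidableEq K] [Algebra F K]
    (hsp : ∀ g ∈ G, ((g : Matrix ι ι F).charpoly.map (algebraMap F K)).Splits) {GG : Subgroup (GL ι K)}
    (hGG : Stab GG) (hle : ∀ g ∈ G, Matrix.GeneralLinearGroup.map (algebraMap F K) g ∈ GG) {T : Sylow p ↥GG}
    (hT : ∀ t ∈ T, ∀ i j, i ≠ j → ((t : GL ι K) : Matrix ι ι K) i j = 0) {k : ℕ}
    (hk : ∀ g : ↥G, (g ^ k) ^ p = 1) (hkk : ∀ z ∈ π.ker, z ^ k = 1) {x : ↥G} (hx : ∃ j : ℕ, x ^ p ^ j = 1) :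
    ∃ j : ℕ, ¬ q ∣ j ∧ ∀ μ : K, (p : ℤ) ∣ ((rts G.subtype K (x ^ k)).count μ : ℤ) -
      (((rts G.subtype K (x ^ k)).map (· ^ Nat.card (Fx φ) ^ j)).count μ : ℤ) := by
  classical
  obtain ⟨r, hr⟩ := CharP.exists F
  have hrp : Fact r.Prime := ⟨CharP.char_is_prime F r⟩
  have hpr : p ≠ r := by
    rintro rfl
    exact hpF (CharP.cast_eq_zero F p)
  obtain ⟨j, hj, hφj⟩ := exists_frob_pow hF.φ
  have := Fintype.ofFinite (Fx φ)
  have hr0 : CharP (Fx φ) r := (algebraMap (Fx φ) F).charP (algebraMap (Fx φ) F).injective r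
  obtain ⟨a, _, ha⟩ := FiniteField.card (Fx φ) r
  have hn : Nat.card (Fx φ) ^ j = r ^ ((a : ℕ) * j) := by
    rw [Nat.card_eq_fintype_card, ha, pow_mul]
  refine ⟨j, hj, fun μ => ?_⟩
  have hf : Ψ φ ∈ Φ := by rw [hF.Φ]; exact mem_zpowers _
  rw [hn]
  refine row_mult_of (A := A) (Φ := Φ) (ρ := G.subtype) (π := π) hF.pA hC G.subtype_injective hπ hker hkp
    (fun g => hsp g.1 g.2) hGG (fun g => hle g.1 g.2) hT (fun a ha => ?_) hf hpr (σ := φ) (s := 1)
    (fun x => by rw [hφj x, hn]) (fun y => ?_) hk hkk hx μ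
  · obtain ⟨γ, s, h⟩ := semi_of_fsit hF hG hπ hΨ ha
    exact ⟨γ, s, hle s.1 s.2, fun y => ⟨_, rfl, h y⟩⟩
  · refine ⟨fieldAut hG φ y, ?_, hΨ φ y⟩
    rw [one_mul, inv_one, mul_one]
    rfl

/-- **no example in small dimension**, in the frame -/
theorem row_small_congr (hpF : (p : F) ≠ 0) (hF : FSit p q Ψ A Φ φ) (hC : p ≠ 2 → Congr p A Φ) {ι : Type w} [Fintype ι]
    [DecidableEq ι] (hι : Fintype.card ι < q) {G : Subgroup (GL ι F)} (hG : Stab G) (π : ↥G →* S)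
    (hπ : Function.Surjective π) (hker : ∀ z ∈ π.ker, z ∈ center ↥G) (hkp : ¬ p ∣ Nat.card π.ker)
    (hΨ : ∀ (σ : F ≃+* F) (g : ↥G), π (fieldAut hG σ g) = Ψ σ (π g)) (hpS : p ∣ Nat.card S)
    (hq : q ∣ orderOf (Nat.card (Fx φ) : ZMod p)) : False := by
  classical
  obtain ⟨r, hr⟩ := CharP.exists F
  have hrp : Fact r.Prime := ⟨CharP.char_is_prime F r⟩
  have hpr : p ≠ r := by
    rintro rfl
    exact hpF (CharP.cast_eq_zero F p)
  obtain ⟨j, hj, hφj⟩ := exists_frob_pow hF.φ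
  have := Fintype.ofFinite (Fx φ)
  have hr0 : CharP (Fx φ) r := (algebraMap (Fx φ) F).charP (algebraMap (Fx φ) F).injective r
  obtain ⟨a, _, ha⟩ := FiniteField.card (Fx φ) r
  have hn : Nat.card (Fx φ) ^ j = r ^ ((a : ℕ) * j) := by
    rw [Nat.card_eq_fintype_card, ha, pow_mul]
  have hp2 : p ≠ 2 := by
    rintro rfl
    have h1 : ((Nat.card (Fx φ) : ℕ) : ZMod 2) = 1 := by
      rw [Nat.card_eq_fintype_card, ha, Nat.cast_pow]
      have h2 : (r : ZMod 2) = 1 := by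
        have h3 : r % 2 = 1 := (Nat.Prime.eq_two_or_odd hrp.out).resolve_left (fun h => hpr h.symm)
        rw [← ZMod.natCast_mod, h3, Nat.cast_one]
      rw [h2, one_pow]
    rw [h1, orderOf_one] at hq
    exact hqp.out.not_dvd_one hq
  have hf : Ψ φ ∈ Φ := by rw [hF.Φ]; exact mem_zpowers _
  let e : ι ≃ Fin (Fintype.card ι) := Fintype.equivFin ι
  let E : GL ι F ≃* GL (Fin (Fintype.card ι)) F := Units.mapEquiv (Matrix.reindexAlgEquiv F F e).toMulEquiv
  have hE : ∀ (σ : F ≃+* F) (g : GL ι F), E (Matrix.GeneralLinearGroup.map (σ : F →+* F) g) =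
      Matrix.GeneralLinearGroup.map (σ : F →+* F) (E g) := by
    intro σ g
    exact Units.ext (Matrix.ext fun i j => rfl)
  refine row_small_of (q := q) (A := A) (Φ := Φ) (ρ := E.toMonoidHom.comp G.subtype) (π := π) hp2 hqp.out hF.pA (hC hp2)
    (E.injective.comp G.subtype_injective) hπ hker hkp (fun a ha => ?_) hf hpr (σ := φ) (s := 1) (n := (a : ℕ) * j)
    (fun x => by rw [hφj x, hn]) (fun y => ?_) ?_ ?_ ?_
  · obtain ⟨γ, s, h⟩ := semi_of_fsit hF hG hπ hΨ ha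
    refine ⟨γ, E s, fun y => ⟨_, ?_, h y⟩⟩
    show E (s * fieldAut hG γ y * s⁻¹ : ↥G) = E s * Matrix.GeneralLinearGroup.map (γ : F →+* F) (E y) * (E s)⁻¹
    rw [← hE, ← map_inv, ← map_mul, ← map_mul]
    rfl
  · refine ⟨fieldAut hG φ y, ?_, hΨ φ y⟩
    rw [one_mul, inv_one, mul_one]
    exact hE φ y
  · rw [← hn, Nat.cast_pow]
    exact dvd_orderOf_pow hqp.out hj hq
  · rwa [Fintype.card_fin]
  · exact hpS.trans (Subgroup.card_dvd_of_surjective π hπ)

end frame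

end Cfsg.Agent.H754.PQ
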