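import Cfsg.Agent.H55.PQ.Mult

/-!
# S4981: a bound for multiplicities invariant under a power map (helper754)

`exists_e` : a power map of order `q` on the `p`-th roots of unity preserving the multiplicities modulo `p` (from the proof
of `Cfsg.Agent.H55.PQ.cnt_dvd`); `bound` : `2 q N ≤ |R|`.
-/

set_option autoImplicit false

namespace Cfsg.Agent.H754.PQ

universe w

theorem exists_e {p q : ℕ} [hp : Fact p.Prime] (hq : q.Prime) {K : Type w} [Field K] [DecidableEq K] {R : Multiset K}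
    (hR : ∀ μ ∈ R, μ ^ p = 1) {c : ℕ} (hc0 : ¬ p ∣ c) (hqc : q ∣ orderOf (c : ZMod p))
    (hm : ∀ μ : K, (p : ℤ) ∣ (R.count μ : ℤ) - ((R.map (· ^ c)).count μ : ℤ)) :
    ∃ e : ℕ, (∀ μ : K, μ ^ p = 1 → μ ^ e ^ q = μ) ∧ (∀ μ : K, μ ^ p = 1 → μ ≠ 1 → μ ^ e ≠ μ) ∧
      (∀ μ : K, μ ^ p = 1 → μ ≠ 1 → μ ^ e ≠ 1) ∧
      ∀ μ : K, μ ^ p = 1 → (p : ℤ) ∣ (R.count (μ ^ e) : ℤ) - (R.count μ : ℤ) := by
  classical
  have hcop : Nat.Coprime c p := (Nat.coprime_comm.1 ((Nat.Prime.coprime_iff_not_dvd hp.out).2 hc0))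
  -- the `c`-th power is injective on the `p`-th roots of unity
  have hinj : ∀ x y : K, x ^ p = 1 → y ^ p = 1 → x ^ c = y ^ c → x = y := by
    intro x y hx hy hxy
    have hy0 : y ≠ 0 := by
      rintro rfl
      rw [zero_pow hp.out.ne_zero] at hy
      exact zero_ne_one hy
    have h1 : (x / y) ^ c = 1 := by rw [div_pow, hxy, div_self (pow_ne_zero _ hy0)]
    have h2 : (x / y) ^ p = 1 := by rw [div_pow, hx, hy, div_one]
    have h3 : orderOf (x / y) ∣ 1 := by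
      rw [← hcop]
      exact Nat.dvd_gcd (orderOf_dvd_of_pow_eq_one h1) (orderOf_dvd_of_pow_eq_one h2)
    have h4 : x / y = 1 := orderOf_eq_one_iff.1 (Nat.dvd_one.1 h3)
    rw [div_eq_one_iff_eq hy0] at h4
    exact h4
  have hcount : ∀ μ : K, μ ^ p = 1 → (R.map (· ^ c)).count (μ ^ c) = R.count μ := by
    intro μ hμ
    rw [Multiset.count_map, Multiset.count_eq_card_filter_eq]
    congr 1
    refine Multiset.filter_congr fun x hx => ?_
    constructor
    · intro h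
      exact hinj _ _ hμ (hR x hx) h
    · intro h
      rw [h]
  have hstep : ∀ μ : K, μ ^ p = 1 → (p : ℤ) ∣ (R.count (μ ^ c) : ℤ) - (R.count μ : ℤ) := by
    intro μ hμ
    have h1 := hm (μ ^ c)
    rwa [hcount μ hμ] at h1
  have hpow : ∀ (n : ℕ) (μ : K), μ ^ p = 1 → (p : ℤ) ∣ (R.count (μ ^ c ^ n) : ℤ) - (R.count μ : ℤ) := by
    intro n
    induction n with
    | zero =>
      intro μ _
      rw [pow_zero, pow_one, sub_self]
      exact dvd_zero _
    | succ n ih =>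
      intro μ hμ
      have h1 := ih μ hμ
      have h2 := hstep (μ ^ c ^ n) (by rw [← pow_mul, mul_comm, pow_mul, hμ, one_pow])
      rw [← pow_mul, ← pow_succ] at h2
      have h3 := dvd_add h2 h1
      rwa [sub_add_sub_cancel] at h3
  set d := orderOf (c : ZMod p) with hd
  have hc0' : (c : ZMod p) ≠ 0 := by
    rw [Ne, ZMod.natCast_eq_zero_iff]
    exact hc0
  have hd0 : 0 < d := by
    rw [hd, orderOf_pos_iff]
    exact isOfFinOrder_iff_pow_eq_one.2 ⟨p - 1, Nat.sub_pos_of_lt hp.out.one_lt, ZMod.pow_card_sub_one_eq_one hc0'⟩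
  set e := c ^ (d / q) with he
  -- `e ^ q = 1` modulo `p`
  have heq : ∀ μ : K, μ ^ p = 1 → μ ^ e ^ q = μ := by
    intro μ hμ
    have h1 : e ^ q = c ^ d := by rw [he, ← pow_mul, Nat.div_mul_cancel hqc]
    have h2 : c ^ d ≡ 1 [MOD p] := by
      rw [← ZMod.natCast_eq_natCast_iff, Nat.cast_pow, hd, pow_orderOf_eq_one, Nat.cast_one]
    have h3 : c ^ d ≡ 1 [MOD orderOf μ] := h2.of_dvd (orderOf_dvd_of_pow_eq_one hμ)
    rw [h1]
    have h4 := (pow_eq_pow_iff_modEq (x := Units.mk0 μ (by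
      rintro rfl
      rw [zero_pow hp.out.ne_zero] at hμ
      exact zero_ne_one hμ)) (n := c ^ d) (m := 1)).2 (by
        rw [← orderOf_units, Units.val_mk0]
        exact h3)
    have h5 := congrArg Units.val h4
    simpa using h5
  have hne : ∀ μ : K, μ ^ p = 1 → μ ≠ 1 → μ ^ e ≠ μ := by
    intro μ hμ hμ1 h
    have hμ0 : μ ≠ 0 := by
      rintro rfl
      rw [zero_pow hp.out.ne_zero] at hμ
      exact zero_ne_one hμ
    have ho : orderOf (Units.mk0 μ hμ0) = p := by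
      apply orderOf_eq_prime
      · apply Units.ext
        rw [Units.val_pow_eq_pow_val, Units.val_mk0, hμ, Units.val_one]
      · intro h1
        exact hμ1 (by simpa using congrArg Units.val h1)
    have h1 : (Units.mk0 μ hμ0) ^ e = (Units.mk0 μ hμ0) ^ 1 := by
      apply Units.ext
      rw [Units.val_pow_eq_pow_val, Units.val_mk0, h, pow_one, Units.val_mk0]
    rw [pow_eq_pow_iff_modEq, ho, ← ZMod.natCast_eq_natCast_iff, he, Nat.cast_pow, Nat.cast_one] at h1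
    have h2 : d ∣ d / q := orderOf_dvd_of_pow_eq_one h1
    have h3 : d / q < d := Nat.div_lt_self hd0 hq.one_lt
    have h4 : 0 < d / q := Nat.div_pos (Nat.le_of_dvd hd0 hqc) hq.pos
    exact absurd (Nat.le_of_dvd h4 h2) (not_le.2 h3)
  have hone : ∀ μ : K, μ ^ p = 1 → μ ≠ 1 → μ ^ e ≠ 1 := by
    intro μ hμ hμ1 h
    have h1 := heq μ hμ
    have h2 : e ^ q = e * e ^ (q - 1) := by
      rw [← pow_succ', Nat.sub_add_cancel hq.one_le]
    rw [h2, pow_mul, h, one_pow] at h1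
    exact hμ1 h1.symm
  exact ⟨e, heq, hne, hone, fun μ hμ => hpow (d / q) μ hμ⟩

/-- **the bound** -/
theorem bound {p q : ℕ} [hp : Fact p.Prime] (hp2 : p ≠ 2) (hq : q.Prime) (hq2 : q ≠ 2) {K : Type w} [Field K]
    [DecidableEq K] {R : Multiset K} (hR : ∀ μ ∈ R, μ ^ p = 1) {c : ℕ} (hc0 : ¬ p ∣ c) (hqc : q ∣ orderOf (c : ZMod p))
    (hm : ∀ μ : K, (p : ℤ) ∣ (R.count μ : ℤ) - ((R.map (· ^ c)).count μ : ℤ))
    (hsym : ∀ μ : K, R.count μ⁻¹ = R.count μ) {ν : K} (hν : ν ≠ 1) (h0 : R.count ν ≠ 0) (hlt : R.count ν < p) :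
    2 * q * R.count ν ≤ Multiset.card R := by
  classical
  obtain ⟨e, heq, hne, hone, hpe⟩ := exists_e hq hR hc0 hqc hm
  set N := R.count ν with hN
  set s := R.toFinset.filter (fun μ => μ ≠ 1 ∧ (p : ℤ) ∣ (R.count μ : ℤ) - (N : ℤ)) with hs
  have hcnt : ∀ μ : K, (p : ℤ) ∣ (R.count μ : ℤ) - (N : ℤ) → N ≤ R.count μ := by
    intro μ h
    by_contra hlt'
    rw [not_le] at hlt'
    have h1 : (p : ℤ) ∣ (N : ℤ) - (R.count μ : ℤ) := by
      rw [← neg_sub]
      exact (dvd_neg).2 h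
    have h2 : ((N : ℤ) - (R.count μ : ℤ)) = ((N - R.count μ : ℕ) : ℤ) := by
      rw [Nat.cast_sub hlt'.le]
    rw [h2] at h1
    have h3 : p ∣ N - R.count μ := by exact_mod_cast h1
    have h4 := Nat.le_of_dvd (Nat.sub_pos_of_lt hlt') h3
    omega
  have hmem : ∀ μ : K, μ ∈ s ↔ μ ≠ 1 ∧ (p : ℤ) ∣ (R.count μ : ℤ) - (N : ℤ) := by
    intro μ
    rw [hs, Finset.mem_filter, Multiset.mem_toFinset]
    constructor
    · exact fun h => h.2
    · intro h
      refine ⟨?_, h⟩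
      have h1 := hcnt μ h.2
      exact Multiset.count_pos.1 (lt_of_lt_of_le (Nat.pos_of_ne_zero h0) h1)
  have hsR : ∀ μ ∈ s, μ ^ p = 1 := by
    intro μ hμ
    rw [hs, Finset.mem_filter, Multiset.mem_toFinset] at hμ
    exact hR μ hμ.1
  have hit : ∀ (n : ℕ) (μ : K), (fun x : K => x ^ e)^[n] μ = μ ^ e ^ n := by
    intro n
    induction n with
    | zero => intro μ; simp
    | succ n ih =>
      intro μ
      rw [Function.iterate_succ_apply', ih, ← pow_mul, ← pow_succ]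
  have h1 : q ∣ s.card := by
    refine Cfsg.Agent.H55.PQ.dvd_card_of_stable hq s (fun x => x ^ e) ?_ ?_ ?_
    · intro μ hμ
      have h2 := hsR μ hμ
      rw [hmem] at hμ ⊢
      refine ⟨hone μ h2 hμ.1, ?_⟩
      have h3 := dvd_add (hpe μ h2) hμ.2
      rwa [sub_add_sub_cancel] at h3
    · intro μ hμ
      rw [hit]
      exact heq μ (hsR μ hμ)
    · intro μ hμ
      exact hne μ (hsR μ hμ) ((hmem μ).1 hμ).1
  have h2 : 2 ∣ s.card := by
    refine Cfsg.Agent.H55.PQ.dvd_card_of_stable Nat.prime_two s (fun x => x⁻¹) ?_ ?_ ?_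
    · intro μ hμ
      rw [hmem] at hμ ⊢
      refine ⟨fun h => hμ.1 (inv_eq_one.1 h), ?_⟩
      rw [hsym]
      exact hμ.2
    · intro μ _
      show (μ⁻¹)⁻¹ = μ
      exact inv_inv μ
    · intro μ hμ h
      have h3 := hsR μ hμ
      have h4 : μ ^ 2 = 1 := by
        have h5 : μ ≠ 0 := by
          rintro rfl
          rw [zero_pow hp.out.ne_zero] at h3
          exact zero_ne_one h3
        have h6 : μ⁻¹ = μ := h
        rw [pow_two]
        nth_rewrite 1 [← h6]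
        exact inv_mul_cancel₀ h5
      have h5 : μ ^ Nat.gcd 2 p = 1 := pow_gcd_eq_one.2 ⟨h4, h3⟩
      rw [(Nat.coprime_primes Nat.prime_two hp.out).2 hp2.symm, pow_one] at h5
      exact ((hmem μ).1 hμ).1 h5
  have h3 : 2 * q ∣ s.card := (Nat.Coprime.mul_dvd_of_dvd_of_dvd ((Nat.coprime_primes Nat.prime_two hq).2 hq2.symm) h2 h1)
  have h4 : ν ∈ s := by
    rw [hmem]
    exact ⟨hν, by rw [sub_self]; exact dvd_zero _⟩
  have h5 : 2 * q ≤ s.card := Nat.le_of_dvd (Finset.card_pos.2 ⟨ν, h4⟩) h3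
  calc 2 * q * N ≤ s.card * N := Nat.mul_le_mul_right N h5
    _ = ∑ _μ ∈ s, N := by rw [Finset.sum_const, smul_eq_mul]
    _ ≤ ∑ μ ∈ s, R.count μ := Finset.sum_le_sum fun μ hμ => hcnt μ ((hmem μ).1 hμ).2
    _ ≤ ∑ μ ∈ R.toFinset, R.count μ := Finset.sum_le_sum_of_subset (Finset.filter_subset _ _)
    _ = Multiset.card R := Multiset.toFinset_sum_count_eq R

end Cfsg.Agent.H754.PQ
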