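import Cfsg.Agent.Nodes.RGDFoldSL
import Cfsg.Agent.ClassicalGeometry.NonsplitTorus

/-!
# S4981: elements of `SL₂` (helper754)

* `exists_conj` (from helper788, `H788/NB/Norm.lean`) : `g ∈ SL₂(K)` of odd prime order `p`, `K ∋` primitive `p`-th root of
  unity: `g` is conjugate to `diag (c, c⁻¹)`;
* `exists_elt` : an element of `SL₂(F)` of order `(Q² - 1)_p`.
-/

set_option autoImplicit false

namespace Cfsg.Agent.H754.PQ.SLTwo

open Cfsg.Agent.ChevalleyStructure.SL2Hom (up lo mem_closure_SL2)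
open Cfsg.Agent.Nodes.RGDFoldSL (wS hS coe_wS coe_hS map_hS)


open Matrix

variable {K : Type*} [Field K]

/-- `diag(c, c⁻¹)` -/
def dg (c : Kˣ) : SpecialLinearGroup (Fin 2) K :=
  ⟨!![(c : K), 0; 0, ((c⁻¹ : Kˣ) : K)], by simp [Matrix.det_fin_two]⟩

theorem coe_dg (c : Kˣ) : ((dg c : SpecialLinearGroup (Fin 2) K) : Matrix (Fin 2) (Fin 2) K) =
    !![(c : K), 0; 0, ((c⁻¹ : Kˣ) : K)] := rfl

theorem exists_root {n : Type*} [Fintype n] [DecidableEq n] [Nonempty n] {p : ℕ} (hp : 0 < p) {ζ : K}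
    (hζ : IsPrimitiveRoot ζ p) {g : Matrix n n K} (hg : g ^ p = 1) : ∃ c : K, c ^ p = 1 ∧ (g - c • 1).det = 0 := by
  let φ : Polynomial K →* K := (Matrix.detMonoidHom (n := n) (R := K)).comp (Polynomial.aeval g).toRingHom.toMonoidHom
  have h1 : φ (Polynomial.X ^ p - 1) = 0 := by
    show ((Polynomial.aeval g) (Polynomial.X ^ p - 1 : Polynomial K)).det = 0
    rw [map_sub, map_pow, Polynomial.aeval_X, map_one, hg, sub_self]
    exact Matrix.det_zero
  rw [Polynomial.X_pow_sub_one_eq_prod hp hζ, map_prod, Finset.prod_eq_zero_iff] at h1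
  obtain ⟨c, hc, h2⟩ := h1
  refine ⟨c, (Polynomial.mem_nthRootsFinset hp _).1 hc, ?_⟩
  have h3 : ((Polynomial.aeval g) (Polynomial.X - Polynomial.C c : Polynomial K)).det = 0 := h2
  rw [map_sub, Polynomial.aeval_X, Polynomial.aeval_C, Algebra.algebraMap_eq_smul_one] at h3
  exact h3

/-- a matrix of determinant one with given first column -/
theorem exists_col {v : Fin 2 → K} (hv : v ≠ 0) :
    ∃ k : SpecialLinearGroup (Fin 2) K, ∀ i, (k : Matrix (Fin 2) (Fin 2) K) i 0 = v i := by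
  by_cases h0 : v 0 = 0
  · have h1 : v 1 ≠ 0 := by
      intro h1
      apply hv
      funext i
      fin_cases i
      · exact h0
      · exact h1
    refine ⟨⟨!![v 0, -(v 1)⁻¹; v 1, 0], by simp [Matrix.det_fin_two, h1]⟩, fun i => ?_⟩
    fin_cases i <;> simp
  · refine ⟨⟨!![v 0, 0; v 1, (v 0)⁻¹], by simp [Matrix.det_fin_two, h0]⟩, fun i => ?_⟩
    fin_cases i <;> simp

theorem pow_upper (s : K) (n : ℕ) : (!![(1 : K), s; 0, 1]) ^ n = !![(1 : K), n * s; 0, 1] := by
  induction n with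
  | zero =>
    rw [pow_zero]
    ext i j
    fin_cases i <;> fin_cases j <;> simp
  | succ n ih =>
    rw [pow_succ, ih]
    ext i j
    fin_cases i <;> fin_cases j <;> simp [Matrix.mul_apply, Fin.sum_univ_two]
    ring

theorem natCast_ne_zero {p : ℕ} (hp : p.Prime) {ζ : K} (hζ : IsPrimitiveRoot ζ p) : (p : K) ≠ 0 := by
  intro h0
  obtain ⟨r, hr⟩ := CharP.exists K
  have h1 : r ∣ p := (CharP.cast_eq_zero_iff K r p).1 h0
  rcases (Nat.dvd_prime hp).1 h1 with rfl | rfl
  · exact absurd rfl (CharP.char_ne_one K 1)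
  · have : Fact r.Prime := ⟨hp⟩
    have h2 : (ζ - 1) ^ r = 0 := by
      rw [sub_pow_char, hζ.pow_eq_one, one_pow, sub_self]
    have h3 : ζ = 1 := sub_eq_zero.1 (pow_eq_zero_iff hp.ne_zero |>.1 h2)
    exact hζ.ne_one hp.one_lt h3

/-- **Elements of odd prime order are diagonalizable.** -/
theorem exists_conj {p : ℕ} (hp : p.Prime) (hp2 : p ≠ 2) {ζ : K} (hζ : IsPrimitiveRoot ζ p)
    {g : SpecialLinearGroup (Fin 2) K} (hg : g ^ p = 1) (hg1 : g ≠ 1) :
    ∃ (k : SpecialLinearGroup (Fin 2) K) (c : Kˣ), c ^ p = 1 ∧ c ≠ 1 ∧ k * g * k⁻¹ = dg c := by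
  have hodd : Odd p := hp.odd_of_ne_two hp2
  have hpK := natCast_ne_zero hp hζ
  have hgm : (g : Matrix (Fin 2) (Fin 2) K) ^ p = 1 := by
    rw [← Matrix.SpecialLinearGroup.coe_pow, hg, Matrix.SpecialLinearGroup.coe_one]
  obtain ⟨c, hc, hdet⟩ := exists_root hp.pos hζ hgm
  have hc0 : c ≠ 0 := by
    rintro rfl
    rw [zero_pow hp.ne_zero] at hc
    exact zero_ne_one hc
  obtain ⟨v, hv, hgv⟩ := Matrix.exists_mulVec_eq_zero_iff.2 hdet
  have hgv' : (g : Matrix (Fin 2) (Fin 2) K) *ᵥ v = c • v := by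
    rw [Matrix.sub_mulVec, Matrix.smul_mulVec, Matrix.one_mulVec, sub_eq_zero] at hgv
    exact hgv
  obtain ⟨k, hk⟩ := exists_col hv
  -- `k⁻¹ g k` is upper triangular
  set m := k⁻¹ * g * k with hm
  have hkm : k * m = g * k := by rw [hm]; group
  have hcol : ∀ i, (k : Matrix (Fin 2) (Fin 2) K) i 0 * (m : Matrix (Fin 2) (Fin 2) K) 0 0 +
      (k : Matrix (Fin 2) (Fin 2) K) i 1 * (m : Matrix (Fin 2) (Fin 2) K) 1 0 = c * v i := by
    intro i
    have h3 := congrFun (congrFun (congrArg (fun z : SpecialLinearGroup (Fin 2) K => (z : Matrix (Fin 2) (Fin 2) K)) hkm)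
      i) 0
    simp only [Matrix.SpecialLinearGroup.coe_mul, Matrix.mul_apply, Fin.sum_univ_two] at h3
    rw [h3, hk 0, hk 1]
    have h4 := congrFun hgv' i
    rw [Matrix.mulVec, dotProduct, Fin.sum_univ_two] at h4
    simpa using h4
  have hdk : (k : Matrix (Fin 2) (Fin 2) K) 0 0 * (k : Matrix (Fin 2) (Fin 2) K) 1 1 -
      (k : Matrix (Fin 2) (Fin 2) K) 0 1 * (k : Matrix (Fin 2) (Fin 2) K) 1 0 = 1 := by
    rw [← Matrix.det_fin_two]; exact k.2
  have e0 := hcol 0
  have e1 := hcol 1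
  rw [← hk 0] at e0
  rw [← hk 1] at e1
  set k00 := (k : Matrix (Fin 2) (Fin 2) K) 0 0
  set k01 := (k : Matrix (Fin 2) (Fin 2) K) 0 1
  set k10 := (k : Matrix (Fin 2) (Fin 2) K) 1 0
  set k11 := (k : Matrix (Fin 2) (Fin 2) K) 1 1
  have m10 : (m : Matrix (Fin 2) (Fin 2) K) 1 0 = 0 := by
    linear_combination k00 * e1 - k10 * e0 - (m : Matrix (Fin 2) (Fin 2) K) 1 0 * hdk
  have m00 : (m : Matrix (Fin 2) (Fin 2) K) 0 0 = c := by
    linear_combination k11 * e0 - k01 * e1 - ((m : Matrix (Fin 2) (Fin 2) K) 0 0 - c) * hdk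
  have hdm : (m : Matrix (Fin 2) (Fin 2) K) 0 0 * (m : Matrix (Fin 2) (Fin 2) K) 1 1 -
      (m : Matrix (Fin 2) (Fin 2) K) 0 1 * (m : Matrix (Fin 2) (Fin 2) K) 1 0 = 1 := by
    rw [← Matrix.det_fin_two]; exact m.2
  have m11 : (m : Matrix (Fin 2) (Fin 2) K) 1 1 = c⁻¹ := by
    rw [m10, m00, mul_zero, sub_zero] at hdm
    exact eq_inv_of_mul_eq_one_right hdm
  set s := (m : Matrix (Fin 2) (Fin 2) K) 0 1 with hs
  have hmat : (m : Matrix (Fin 2) (Fin 2) K) = !![c, s; 0, c⁻¹] := by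
    ext i j
    fin_cases i <;> fin_cases j
    · exact m00
    · rfl
    · exact m10
    · exact m11
  have hmp : m ^ p = 1 := by
    have h3 : m = k⁻¹ * g * k⁻¹⁻¹ := by rw [hm, inv_inv]
    rw [h3, conj_pow, hg, mul_one, mul_inv_cancel]
  have hc2 : c ^ 2 = 1 → c = 1 := by
    intro h3
    obtain ⟨j, hj⟩ := hodd
    rw [hj, pow_succ, pow_mul, h3, one_pow, one_mul] at hc
    exact hc
  have hc1 : c ≠ 1 := by
    intro h3
    have h4 : !![(1 : K), s; 0, 1] ^ p = 1 := by
      have h5 := congrArg (fun z : SpecialLinearGroup (Fin 2) K => (z : Matrix (Fin 2) (Fin 2) K)) hmp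
      simp only [Matrix.SpecialLinearGroup.coe_pow, Matrix.SpecialLinearGroup.coe_one, hmat, h3, inv_one] at h5
      exact h5
    rw [pow_upper] at h4
    have h5 := congrFun (congrFun h4 0) 1
    have h6 : (p : K) * s = 0 := by simpa using h5
    have h7 : s = 0 := (mul_eq_zero.1 h6).resolve_left hpK
    have h8 : m = 1 := by
      apply Subtype.ext
      show (m : Matrix (Fin 2) (Fin 2) K) = 1
      rw [hmat, h7, h3]
      ext i j
      fin_cases i <;> fin_cases j <;> simp
    apply hg1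
    have h9 : g = k * m * k⁻¹ := by rw [hm]; group
    rw [h9, h8]; group
  have hcc : c⁻¹ - c ≠ 0 := by
    intro h3
    apply hc1
    apply hc2
    rw [sub_eq_zero] at h3
    rw [pow_two]
    nth_rewrite 1 [← h3]
    exact inv_mul_cancel₀ hc0
  set t : K := -s / (c⁻¹ - c) with ht
  refine ⟨up t * k⁻¹, Units.mk0 c hc0, ?_, ?_, ?_⟩
  · apply Units.ext
    rw [Units.val_pow_eq_pow_val, Units.val_mk0, hc, Units.val_one]
  · intro h3
    exact hc1 (by rw [← Units.val_mk0 hc0, h3, Units.val_one])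
  have h3 : up t * k⁻¹ * g * (up t * k⁻¹)⁻¹ = up t * m * (up t)⁻¹ := by rw [hm]; group
  rw [h3, mul_inv_eq_iff_eq_mul]
  clear_value m
  apply Subtype.ext
  have h4 : t * (c⁻¹ - c) = -s := by rw [ht]; exact div_mul_cancel₀ _ hcc
  have h5 : ((up t * m : SpecialLinearGroup (Fin 2) K) : Matrix (Fin 2) (Fin 2) K) =
      !![(1 : K), t; 0, 1] * !![c, s; 0, c⁻¹] := by
    rw [Matrix.SpecialLinearGroup.coe_mul, hmat]; rfl
  have h6 : ((dg (Units.mk0 c hc0) * up t : SpecialLinearGroup (Fin 2) K) : Matrix (Fin 2) (Fin 2) K) =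
      !![c, 0; 0, c⁻¹] * !![1, t; 0, 1] := by
    rw [Matrix.SpecialLinearGroup.coe_mul, coe_dg]; rfl
  refine h5.trans (Eq.trans ?_ h6.symm)
  ext i j
  fin_cases i <;> fin_cases j
  · simp [Matrix.mul_apply, Fin.sum_univ_two]
  · simp only [Matrix.mul_apply, Fin.sum_univ_two]
    simp
    linear_combination h4
  · simp [Matrix.mul_apply, Fin.sum_univ_two]
  · simp [Matrix.mul_apply, Fin.sum_univ_two]


theorem dg_eq {K : Type*} [Field K] (c : Kˣ) : dg c = hS (c : K) := by
  apply Subtype.ext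
  rw [coe_hS c.ne_zero, ← Units.val_inv_eq_inv_val]
  rfl

/-- an element of order `(Q² - 1)_p` -/
theorem exists_elt {p : ℕ} [hp : Fact p.Prime] (hp2 : p ≠ 2) {k : Type*} [Field k] [Fintype k]
    (h : p ∣ Fintype.card k ^ 2 - 1) : ∃ M : SpecialLinearGroup (Fin 2) k,
      orderOf M = p ^ (Fintype.card k ^ 2 - 1).factorization p := by
  classical
  set Q := Fintype.card k with hQ
  have hQ1 : 1 < Q := Fintype.one_lt_card
  have hfac : Q ^ 2 - 1 = (Q - 1) * (Q + 1) := by
    have := Nat.sq_sub_sq Q 1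
    rw [one_pow] at this
    rw [this, mul_comm]
  -- an element whose order `n` has the same `p`-part
  have key : ∀ (g : SpecialLinearGroup (Fin 2) k) (n : ℕ), orderOf g = n → n ≠ 0 →
      (Q ^ 2 - 1).factorization p = n.factorization p →
      ∃ M : SpecialLinearGroup (Fin 2) k, orderOf M = p ^ (Q ^ 2 - 1).factorization p := by
    intro g n hg hn hf
    refine ⟨g ^ (n / p ^ n.factorization p), ?_⟩
    have h1 : n / p ^ n.factorization p ∣ n := Nat.div_dvd_of_dvd (Nat.ordProj_dvd _ _)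
    have h3 : n / p ^ n.factorization p ≠ 0 := (Nat.ordCompl_pos p hn).ne'
    rw [orderOf_pow_of_dvd h3 (by rw [hg]; exact h1), hg, hf]
    exact Nat.div_div_self (Nat.ordProj_dvd _ _) hn
  have hfm : (Q ^ 2 - 1).factorization p = (Q - 1).factorization p + (Q + 1).factorization p := by
    rw [hfac, Nat.factorization_mul (by omega) (by omega)]
    rfl
  rw [hfac] at h
  rcases (Nat.Prime.dvd_mul hp.out).1 h with h1 | h1
  · -- split
    have h2 : ¬ p ∣ Q + 1 := by
      intro h2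
      have h3 : p ∣ 2 := by
        have h4 := (Nat.dvd_sub h2 h1)
        have h5 : Q + 1 - (Q - 1) = 2 := by omega
        rwa [h5] at h4
      exact hp2 ((Nat.prime_dvd_prime_iff_eq hp.out Nat.prime_two).1 h3)
    obtain ⟨u, hu⟩ := IsCyclic.exists_generator (α := kˣ)
    have ho : orderOf u = Q - 1 := by
      rw [orderOf_eq_card_of_forall_mem_zpowers hu, Nat.card_units, Nat.card_eq_fintype_card]
    have hinj : orderOf (dg u) = orderOf u := by
      have hpow : ∀ n : ℕ, (dg u) ^ n = dg (u ^ n) := by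
        intro n
        apply Subtype.ext
        rw [Matrix.SpecialLinearGroup.coe_pow, coe_dg, coe_dg]
        induction n with
        | zero =>
          rw [pow_zero, pow_zero]
          ext i j
          fin_cases i <;> fin_cases j <;> simp
        | succ n ih =>
          rw [pow_succ, ih]
          ext i j
          fin_cases i <;> fin_cases j <;> simp [Matrix.mul_apply, Fin.sum_univ_two, pow_succ, mul_comm]
      have hiff : ∀ n : ℕ, (dg u) ^ n = 1 ↔ u ^ n = 1 := by
        intro n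
        rw [hpow]
        constructor
        · intro h3
          have h4 := congrFun (congrFun (congrArg Subtype.val h3) 0) 0
          apply Units.ext
          simpa [dg] using h4
        · intro h3
          rw [h3]
          apply Subtype.ext
          ext i j
          fin_cases i <;> fin_cases j <;> simp [dg]
      apply Nat.dvd_antisymm
      · exact orderOf_dvd_of_pow_eq_one ((hiff _).2 (pow_orderOf_eq_one u))
      · exact orderOf_dvd_of_pow_eq_one ((hiff _).1 (pow_orderOf_eq_one (dg u)))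
    refine key (dg u) (Q - 1) (hinj.trans ho) (by omega) ?_
    rw [hfm, Nat.factorization_eq_zero_of_not_dvd h2, add_zero]
  · -- nonsplit
    have h2 : ¬ p ∣ Q - 1 := by
      intro h2
      have h3 : p ∣ 2 := by
        have h4 := (Nat.dvd_sub h1 h2)
        have h5 : Q + 1 - (Q - 1) = 2 := by omega
        rwa [h5] at h4
      exact hp2 ((Nat.prime_dvd_prime_iff_eq hp.out Nat.prime_two).1 h3)
    obtain ⟨a, _, _, ha, _⟩ := Cfsg.Agent.ClassicalGeometry.NonsplitTorus.exists_torus (F := k)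
    refine key a (Q + 1) ha (by omega) ?_
    rw [hfm, Nat.factorization_eq_zero_of_not_dvd h2, zero_add]

end Cfsg.Agent.H754.PQ.SLTwo
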