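import Cfsg.Agent.H754.PQ.Final
import Cfsg.Agent.H754.PQ.Expo
import Cfsg.Agent.H754.PQ.SLTwo
import Cfsg.Agent.H754.PQ.Bound
import Cfsg.Agent.H660.PQ.DiagSyl
import Cfsg.Agent.ChevStructure.FieldMap

/-!
# S4981: the exceptional groups, `p ∣ Q² - 1` (helper754)

* `exc_data` : the multiplicities for an element `x` of order `(Q² - 1)_p` of a subgroup `G` of a Chevalley group;
* `psi` : the eigenvalues of the elements of a root `SL₂`;
* `two_long` : a long root `SL₂(Q)`: contradiction.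
-/

set_option autoImplicit false

open Polynomial Cfsg Subgroup

open scoped MatrixGroups

namespace Cfsg.Agent.H754.PQ

open Cfsg.Lie Cfsg.Agent.ChevalleyStructure Cfsg.Agent.ChevalleyStructure.Elts
open Cfsg.Agent.H54.PQ Cfsg.Agent.H967.CopMat
open Cfsg.Agent.Nodes.RGDFoldSL (wS hS coe_wS coe_hS map_hS psi psi_up psi_lo psi_hS psi_wS psi_mem map_up map_lo)
open Cfsg.Agent.ChevalleyStructure.SL2Hom (up lo mem_closure_SL2)

universe u v w

/-! ### arithmetic -/

theorem le_fac {p Q j N : ℕ} [hp : Fact p.Prime] (hp2 : p ≠ 2) (hQ : 1 < Q) (hpQ : p ∣ Q ^ 2 - 1) (hN : ¬ p ∣ N)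
    (hN0 : N ≠ 0) (h : p ^ j ∣ Q ^ N - 1) : j ≤ (Q ^ 2 - 1).factorization p := by
  have hQ2 : 1 < Q ^ 2 := Nat.one_lt_pow (by norm_num) hQ
  have h1 : p ^ j ∣ (Q ^ 2) ^ N - 1 := by
    refine h.trans ?_
    rw [← pow_mul, mul_comm 2 N, pow_mul]
    have := Nat.sub_dvd_pow_sub_pow (Q ^ N) 1 2
    rwa [one_pow] at this
  have hpnQ : ¬ p ∣ Q ^ 2 := by
    intro h2
    have h3 := Nat.dvd_sub h2 hpQ
    rw [Nat.sub_sub_self hQ2.le] at h3
    exact hp.out.one_lt.ne' (Nat.dvd_one.1 h3)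
  have h2 := padicValNat.pow_sub_pow (hp.out.odd_of_ne_two hp2) hQ2 hpQ hpnQ hN0
  rw [one_pow, padicValNat.eq_zero_of_not_dvd hN, add_zero] at h2
  rw [Nat.factorization_def _ hp.out, ← h2]
  have h3 : (Q ^ 2) ^ N - 1 ≠ 0 := by
    have := Nat.one_lt_pow hN0 hQ2
    omega
  exact (padicValNat_dvd_iff_le h3).1 h1

/-! ### the data for an element of maximal order -/

theorem exc_data {p q : ℕ} [hp : Fact p.Prime] [hq : Fact q.Prime] {S : Type u} [Group S] [Finite S] {D : ChevalleyDatum}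
    (hD : InList D) {F : Type v} [Field F] [Finite F] {Ψ : (F ≃+* F) →* MulAut S} {A Φ : Subgroup (MulAut S)}
    {φ : F ≃+* F} (hpF : (p : F) ≠ 0) (hF : FSit p q Ψ A Φ φ) (hinv : InvHyp p A Φ) {G : Subgroup (GL D.Idx F)}
    (hle : G ≤ D.group F) (hG : Stab G) (π : ↥G →* S) (hπ : Function.Surjective π)
    (hker : ∀ z ∈ π.ker, z ∈ center ↥G) (hkp : ¬ p ∣ Nat.card π.ker)
    (hΨ : ∀ (σ : F ≃+* F) (g : ↥G), π (fieldAut hG σ g) = Ψ σ (π g)) (hp7 : 7 < p) {Q e : ℕ} (hQ1 : 1 < Q)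
    (hQ : Nat.card F = Q ^ e) (he : ¬ p ∣ e) (hpQ : p ∣ Q ^ 2 - 1) {x : ↥G}
    (hx : orderOf x = p ^ (Q ^ 2 - 1).factorization p) :
    ∃ (K : Type v) (_ : Field K) (_ : Fintype K) (_ : DecidableEq K) (_ : Algebra F K) (k : ℕ),
      (∃ ζ : K, IsPrimitiveRoot ζ p) ∧
      (x ^ k) ^ p = 1 ∧ x ^ k ≠ 1 ∧
      (∀ g : ↥G, (((g : GL D.Idx F) : Matrix D.Idx D.Idx F).charpoly.map (algebraMap F K)).Splits) ∧
      ∃ j : ℕ, ¬ q ∣ j ∧ ∀ μ : K, (p : ℤ) ∣ ((rts G.subtype K (x ^ k)).count μ : ℤ) -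
        (((rts G.subtype K (x ^ k)).map (· ^ Nat.card (Fx φ) ^ j)).count μ : ℤ) := by
  classical
  have hp2 : p ≠ 2 := by omega
  have hQ21 : 1 < Q ^ 2 := Nat.one_lt_pow (by norm_num) hQ1
  have hfac : 1 ≤ (Q ^ 2 - 1).factorization p := by
    have h1 : p ^ 1 ∣ Q ^ 2 - 1 := by rwa [pow_one]
    exact (Nat.Prime.pow_dvd_iff_le_factorization hp.out (by omega)).1 h1
  have := Fintype.ofFinite ↥G
  obtain ⟨K, _, _, _, hs, hK⟩ := exists_big_field hp.out hpF (∏ g : ↥G, ((g : GL D.Idx F) : Matrix D.Idx D.Idx F).charpoly)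
    (Finset.prod_ne_zero_iff.2 fun g _ => (Matrix.charpoly_monic _).ne_zero)
  have hsp : ∀ g : ↥G, (((g : GL D.Idx F) : Matrix D.Idx D.Idx F).charpoly.map (algebraMap F K)).Splits := by
    intro g
    rw [Polynomial.map_prod] at hs
    refine hs.of_dvd ?_ (Finset.dvd_prod_of_mem _ (Finset.mem_univ g))
    exact Finset.prod_ne_zero_iff.2 fun g _ => ((Matrix.charpoly_monic _).map _).ne_zero
  obtain ⟨T, _, hT⟩ := Cfsg.Agent.H660.PQ.exists_torus_sylow hD K hp7 hK
  have hstab : Stab (D.group K) := by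
    intro σ g hg
    have h1 : (D.group K).map (Matrix.GeneralLinearGroup.map (σ : K →+* K)) ≤ D.group K := by
      unfold ChevalleyDatum.group
      rw [MonoidHom.map_closure]
      refine Subgroup.closure_mono ?_
      rintro _ ⟨g, ⟨r, t, h⟩, rfl⟩
      refine ⟨r, σ t, ?_⟩
      show (g : Matrix D.Idx D.Idx K).map (σ : K →+* K) = _
      rw [h]
      exact Cfsg.Agent.ChevStructure.FieldMap.xMat_map D (σ : K →+* K) r t
    exact h1 ⟨g, hg, rfl⟩
  have hmap : ∀ g ∈ G, Matrix.GeneralLinearGroup.map (algebraMap F K) g ∈ D.group K := by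
    intro g hg
    have h1 : (D.group F).map (Matrix.GeneralLinearGroup.map (algebraMap F K)) ≤ D.group K := by
      unfold ChevalleyDatum.group
      rw [MonoidHom.map_closure]
      refine Subgroup.closure_mono ?_
      rintro _ ⟨g, ⟨r, t, h⟩, rfl⟩
      refine ⟨r, algebraMap F K t, ?_⟩
      show (g : Matrix D.Idx D.Idx F).map (algebraMap F K) = _
      rw [h]
      exact Cfsg.Agent.ChevStructure.FieldMap.xMat_map D (algebraMap F K) r t
    exact h1 ⟨g, hle hg, rfl⟩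
  have hpG : p ∣ Nat.card ↥G := by
    refine dvd_trans ?_ (orderOf_dvd_natCard x)
    rw [hx]
    exact dvd_pow_self p (by omega)
  obtain ⟨k, b, hb1, hk, hkk, hkx, ⟨y, hy⟩, hmax⟩ := exists_k p ↥G hpG
  -- the maximal order
  have hb : (Q ^ 2 - 1).factorization p = b := by
    refine le_antisymm (hmax x _ hx) ?_
    obtain ⟨m, hm, hym⟩ := expo hstab T hT (x := (y : GL D.Idx F)) (hmap _ y.2)
      ⟨b, by
        have h1 : y ^ p ^ b = 1 := by rw [← hy, pow_orderOf_eq_one]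
        exact congrArg Subtype.val h1⟩
    have hm0 : m ≠ 0 := by rintro rfl; exact hm (dvd_zero p)
    have he0 : e ≠ 0 := by rintro rfl; exact he (dvd_zero p)
    have h2 : y ^ (Nat.card F ^ m - 1) = 1 := Subtype.ext hym
    have h3 : p ^ b ∣ Q ^ (e * m) - 1 := by
      rw [← hy, pow_mul, ← hQ]
      exact orderOf_dvd_of_pow_eq_one h2
    refine le_fac hp2 hQ1 hpQ (fun h4 => ?_) (Nat.mul_ne_zero he0 hm0) h3
    rcases (Nat.Prime.dvd_mul hp.out).1 h4 with h5 | h5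
    · exact he h5
    · exact hm h5
  have hkk' : ∀ z ∈ π.ker, z ^ k = 1 := by
    intro z hz
    refine hkk z fun h => hkp (h.trans ?_)
    have h1 := orderOf_dvd_natCard (⟨z, hz⟩ : π.ker)
    rwa [Subgroup.orderOf_mk] at h1
  obtain ⟨j, hj, hm⟩ := row_mult hp2 hpF hF hinv hG π hπ hker hkp hΨ (K := K) (fun g hg => hsp ⟨g, hg⟩) hstab hmap hT hk
    hkk' (x := x) ⟨b, by rw [← hb, ← hx, pow_orderOf_eq_one]⟩
  refine ⟨K, inferInstance, inferInstance, inferInstance, inferInstance, k, ?_, hk x, hkx x (hx.trans (by rw [hb])), hsp,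
    j, hj, hm⟩
  · obtain ⟨u, hu⟩ := IsCyclic.exists_ofOrder_eq_natCard (α := Kˣ)
    rw [Nat.card_units, Nat.card_eq_fintype_card] at hu
    obtain ⟨c, hc⟩ := hK
    have hc0 : c ≠ 0 := by
      rintro rfl
      have h1 : 1 < Fintype.card K := Fintype.one_lt_card
      omega
    refine ⟨((u ^ c : Kˣ) : K), ?_⟩
    have h1 : orderOf (u ^ c) = p := by
      rw [orderOf_pow_of_dvd hc0 (by rw [hu, hc]; exact dvd_mul_left _ _), hu, hc]
      exact Nat.mul_div_cancel _ (Nat.pos_of_ne_zero hc0)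
    have h2 : IsPrimitiveRoot (u ^ c) p := by
      rw [← h1]
      exact IsPrimitiveRoot.orderOf _
    exact IsPrimitiveRoot.coe_units_iff.2 h2


/-! ### homomorphisms from `SL₂` with given weights -/

/-- the elements of order `p` are conjugate over `K` to diagonal matrices with entries `c ^ E i` -/
def HasWt (p : ℕ) {k₀ : Type w} [Field k₀] {F : Type v} [Field F] {ι : Type} [Fintype ι] [DecidableEq ι]
    (κ : Matrix.SpecialLinearGroup (Fin 2) k₀ →* GL ι F) (E : ι → ℤ) : Prop :=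
  ∀ (K : Type v) [Field K] [Finite K] [Algebra F K] (ζ : K), IsPrimitiveRoot ζ p →
    ∀ N : Matrix.SpecialLinearGroup (Fin 2) k₀, N ^ p = 1 → N ≠ 1 → ∃ (c : K) (g : GL ι K), c ^ p = 1 ∧ c ≠ 1 ∧
      ((g * Matrix.GeneralLinearGroup.map (algebraMap F K) (κ N) * g⁻¹ : GL ι K) : Matrix ι ι K) =
        Matrix.diagonal (fun i => c ^ E i)

theorem exists_prim {p : ℕ} (hp : p.Prime) {F : Type v} [Field F] [Finite F] (hpF : (p : F) ≠ 0) :
    ∃ (K : Type v) (_ : Field K) (_ : Fintype K) (_ : Algebra F K) (ζ : K), IsPrimitiveRoot ζ p := by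
  obtain ⟨K, _, _, _, _, hK⟩ := exists_big_field hp hpF (X : F[X]) X_ne_zero
  refine ⟨K, inferInstance, inferInstance, inferInstance, ?_⟩
  obtain ⟨u, hu⟩ := IsCyclic.exists_ofOrder_eq_natCard (α := Kˣ)
  rw [Nat.card_units, Nat.card_eq_fintype_card] at hu
  obtain ⟨c, hc⟩ := hK
  have hc0 : c ≠ 0 := by
    rintro rfl
    have h1 : 1 < Fintype.card K := Fintype.one_lt_card
    omega
  refine ⟨((u ^ c : Kˣ) : K), ?_⟩
  have h1 : orderOf (u ^ c) = p := by
    rw [orderOf_pow_of_dvd hc0 (by rw [hu, hc]; exact dvd_mul_left _ _), hu, hc]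
    exact Nat.mul_div_cancel _ (Nat.pos_of_ne_zero hc0)
  have h2 : IsPrimitiveRoot (u ^ c) p := by
    rw [← h1]
    exact IsPrimitiveRoot.orderOf _
  exact IsPrimitiveRoot.coe_units_iff.2 h2

theorem prim_of_pow {p : ℕ} (hp : p.Prime) {K : Type*} [Field K] {c : K} (h : c ^ p = 1) (h1 : c ≠ 1) :
    IsPrimitiveRoot c p := by
  have := Fact.mk hp
  rw [← orderOf_eq_prime h h1]
  exact IsPrimitiveRoot.orderOf c

/-- the order is preserved -/
theorem orderOf_kappa {p : ℕ} [hp : Fact p.Prime] {k₀ : Type w} [Field k₀] [Finite k₀] {F : Type v} [Field F]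
    [Finite F] (hpF : (p : F) ≠ 0) {ι : Type} [Fintype ι] [DecidableEq ι]
    {κ : Matrix.SpecialLinearGroup (Fin 2) k₀ →* GL ι F} {E : ι → ℤ} (hκ : HasWt p κ E) (hE : ∃ i, ¬ (p : ℤ) ∣ E i)
    {M : Matrix.SpecialLinearGroup (Fin 2) k₀} {v : ℕ} (hv : 1 ≤ v) (hM : orderOf M = p ^ v) :
    orderOf (κ M) = p ^ v := by
  obtain ⟨K, _, _, _, ζ, hζ⟩ := exists_prim hp.out hpF
  have h1 : (κ M) ^ p ^ ((v - 1) + 1) = 1 := by
    rw [Nat.sub_add_cancel hv, ← map_pow, ← hM, pow_orderOf_eq_one, map_one]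
  have h2 : ¬ (κ M) ^ p ^ (v - 1) = 1 := by
    intro h
    set N := M ^ p ^ (v - 1) with hN
    have hN1 : N ≠ 1 := by
      intro h3
      have h4 : p ^ v ∣ p ^ (v - 1) := by
        rw [← hM]
        exact orderOf_dvd_of_pow_eq_one h3
      have h5 := (Nat.pow_dvd_pow_iff_le_right hp.out.one_lt).1 h4
      omega
    have hNp : N ^ p = 1 := by
      rw [hN, ← pow_mul, ← pow_succ, Nat.sub_add_cancel hv, ← hM, pow_orderOf_eq_one]
    obtain ⟨c, g, hc, hc1, hg⟩ := hκ K ζ hζ N hNp hN1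
    have h3 : κ N = 1 := by rw [hN, map_pow]; exact h
    rw [h3, map_one, mul_one, mul_inv_cancel] at hg
    obtain ⟨i, hi⟩ := hE
    have h4 := congrFun (congrFun hg i) i
    rw [Units.val_one, Matrix.one_apply_eq, Matrix.diagonal_apply_eq] at h4
    exact hi (((prim_of_pow hp.out hc hc1).zpow_eq_one_iff_dvd _).1 h4.symm)
  have h3 := orderOf_eq_prime_pow h2 h1
  rwa [Nat.sub_add_cancel hv] at h3

/-- the eigenvalues -/
theorem rts_of_conj {F : Type v} [Field F] {ι : Type} [Fintype ι] [DecidableEq ι] {S' : Type w} [Group S']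
    {ρ : S' →* GL ι F} {K : Type v} [Field K] [Algebra F K] {y : S'} {g : GL ι K} {d : ι → K}
    (h : ((g * Matrix.GeneralLinearGroup.map (algebraMap F K) (ρ y) * g⁻¹ : GL ι K) : Matrix ι ι K) =
      Matrix.diagonal d) : rts ρ K y = (Finset.univ.val : Multiset ι).map d := by
  have e1 : (Matrix.GeneralLinearGroup.map (algebraMap F K) (ρ y) : Matrix ι ι K) =
      (ρ y : Matrix ι ι F).map (algebraMap F K) := rfl
  rw [Units.val_mul, Units.val_mul, Matrix.coe_units_inv, e1] at h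
  have h1 := congrArg Matrix.charpoly h
  rw [Matrix.charpoly_units_conj, Matrix.charpoly_diagonal, Matrix.charpoly_map] at h1
  rw [rts, h1]
  have h2 : ∏ i, (X - C (d i)) = (((Finset.univ.val : Multiset ι).map d).map (fun a => X - C a)).prod := by
    rw [Multiset.map_map]
    rfl
  rw [h2, Polynomial.roots_multiset_prod_X_sub_C]

theorem count_map_zpow {p : ℕ} [hp : Fact p.Prime] {K : Type v} [Field K] [DecidableEq K] {ι : Type} [Fintype ι]
    {E : ι → ℤ} {c : K} (hc : IsPrimitiveRoot c p) (a : ℤ) :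
    ((Finset.univ.val : Multiset ι).map (fun i => c ^ E i)).count (c ^ a) =
      (Finset.univ.filter fun i => (p : ℤ) ∣ E i - a).card := by
  classical
  have hc0 : c ≠ 0 := hc.ne_zero hp.out.ne_zero
  rw [Multiset.count_map]
  have h1 : Multiset.filter (fun i => c ^ a = c ^ E i) (Finset.univ.val : Multiset ι) =
      (Finset.univ.filter fun i => (p : ℤ) ∣ E i - a).val := by
    rw [Finset.filter_val]
    refine Multiset.filter_congr fun i _ => ?_
    rw [← hc.zpow_eq_one_iff_dvd, zpow_sub₀ hc0, div_eq_one_iff_eq (zpow_ne_zero _ hc0), eq_comm]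
  rw [h1]
  rfl

/-! ### the contradictions -/

section final

variable {p q : ℕ} [hp : Fact p.Prime] [hq : Fact q.Prime] {S : Type u} [Group S] [Finite S] {D : ChevalleyDatum}
    (hD : InList D) {F : Type v} [Field F] [Finite F] {Ψ : (F ≃+* F) →* MulAut S} {A Φ : Subgroup (MulAut S)}
    {φ : F ≃+* F} (hpF : (p : F) ≠ 0) (hF : FSit p q Ψ A Φ φ) (hinv : InvHyp p A Φ) {G : Subgroup (GL D.Idx F)}
    (hle : G ≤ D.group F) (hG : Stab G) (π : ↥G →* S) (hπ : Function.Surjective π)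
    (hker : ∀ z ∈ π.ker, z ∈ center ↥G) (hkp : ¬ p ∣ Nat.card π.ker)
    (hΨ : ∀ (σ : F ≃+* F) (g : ↥G), π (fieldAut hG σ g) = Ψ σ (π g)) (hp7 : 7 < p)
    (hqφ : q ∣ orderOf (Nat.card (Fx φ) : ZMod p)) {Q e : ℕ}
    (hQ : Nat.card F = Q ^ e) (he : ¬ p ∣ e) (hpQ : p ∣ Q ^ 2 - 1) {k₀ : Type w} [Field k₀] [Fintype k₀]
    (hk₀ : Fintype.card k₀ = Q) {κ : Matrix.SpecialLinearGroup (Fin 2) k₀ →* GL D.Idx F} (hκ : ∀ g, κ g ∈ G)
    {E : D.Idx → ℤ} (hE : HasWt p κ E) (hE1 : ∃ i, ¬ (p : ℤ) ∣ E i)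

include hD hpF hF hinv hle hG hπ hker hkp hΨ hp7 hqφ hQ he hpQ hk₀ hκ hE hE1

/-- all the data -/
theorem two_data : ∃ (K : Type v) (_ : Field K) (_ : DecidableEq K) (c : K) (n : ℕ), IsPrimitiveRoot c p ∧ ¬ p ∣ n ∧
    q ∣ orderOf (n : ZMod p) ∧ ∀ μ : K, (p : ℤ) ∣
      ((((Finset.univ.val : Multiset D.Idx).map (fun i => c ^ E i)).count μ : ℕ) : ℤ) -
      (((((Finset.univ.val : Multiset D.Idx).map (fun i => c ^ E i)).map (· ^ n)).count μ : ℕ) : ℤ) := by
  classical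
  have hp2 : p ≠ 2 := by omega
  have hQ1 : 1 < Q := by rw [← hk₀]; exact Fintype.one_lt_card
  have hQ21 : 1 < Q ^ 2 := Nat.one_lt_pow (by norm_num) hQ1
  have hfac : 1 ≤ (Q ^ 2 - 1).factorization p := by
    have h1 : p ^ 1 ∣ Q ^ 2 - 1 := by rwa [pow_one]
    exact (Nat.Prime.pow_dvd_iff_le_factorization hp.out (by omega)).1 h1
  obtain ⟨M, hM⟩ := SLTwo.exists_elt hp2 (k := k₀) (by rw [hk₀]; exact hpQ)
  rw [hk₀] at hM
  set x : ↥G := ⟨κ M, hκ M⟩ with hx
  have hox : orderOf x = p ^ (Q ^ 2 - 1).factorization p := by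
    have h1 : orderOf x = orderOf (κ M) := (Subgroup.orderOf_coe x).symm
    rw [h1]
    exact orderOf_kappa hpF hE hE1 hfac hM
  obtain ⟨K, _, _, _, _, k, ⟨ζ, hζ⟩, hxp, hx1, _, j, hj, hm⟩ := exc_data hD hpF hF hinv hle hG π hπ hker hkp hΨ hp7 hQ1 hQ he
    hpQ hox
  -- `M ^ k` has order `p`
  have hMk1 : M ^ k ≠ 1 := by
    intro h
    apply hx1
    apply Subtype.ext
    show (κ M) ^ k = 1
    rw [← map_pow, h, map_one]
  have hMkp : (M ^ k) ^ p = 1 := by
    have h1 : (κ M) ^ (k * p) = 1 := by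
      have := congrArg Subtype.val hxp
      rw [pow_mul]
      exact this
    have h2 := orderOf_dvd_of_pow_eq_one h1
    rw [orderOf_kappa hpF hE hE1 hfac hM, ← hM] at h2
    rw [← pow_mul]
    exact orderOf_dvd_iff_pow_eq_one.1 h2
  obtain ⟨c, g, hc, hc1, hg⟩ := hE K ζ hζ (M ^ k) hMkp hMk1
  have hcp := prim_of_pow hp.out hc hc1
  have hrts : rts G.subtype K (x ^ k) = (Finset.univ.val : Multiset D.Idx).map (fun i => c ^ E i) := by
    refine rts_of_conj (g := g) ?_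
    rw [← hg]
    congr 4
    show ((x ^ k : ↥G) : GL D.Idx F) = κ (M ^ k)
    rw [map_pow]
    rfl
  rw [hrts] at hm
  obtain ⟨r, hr⟩ := CharP.exists F
  have hrp : Fact r.Prime := ⟨CharP.char_is_prime F r⟩
  have hpr : p ≠ r := by
    rintro rfl
    exact hpF (CharP.cast_eq_zero F p)
  have := Fintype.ofFinite (Fx φ)
  have hr0 : CharP (Fx φ) r := (algebraMap (Fx φ) F).charP (algebraMap (Fx φ) F).injective r
  obtain ⟨a, _, ha⟩ := FiniteField.card (Fx φ) r
  refine ⟨K, inferInstance, inferInstance, c, Nat.card (Fx φ) ^ j, hcp, ?_, ?_, hm⟩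
  · rw [Nat.card_eq_fintype_card, ha, ← pow_mul]
    intro h
    exact hpr ((Nat.prime_dvd_prime_iff_eq hp.out Fact.out).1 (hp.out.dvd_of_dvd_pow h))
  · rw [Nat.cast_pow]
    exact dvd_orderOf_pow hq.out hj hqφ

/-- **few weights** : weights `0, ±1, ±2`, the weight `2` occurs once -/
theorem two_few (h5 : 5 ≤ q) (hE2 : ∀ i, -2 ≤ E i ∧ E i ≤ 2) (hE3 : (Finset.univ.filter fun i => E i = 2).card = 1) :
    False := by
  classical
  obtain ⟨K, _, _, c, n, hc, hn, hqn, hm⟩ := two_data hD hpF hF hinv hle hG π hπ hker hkp hΨ hp7 hqφ hQ he hpQ hk₀ hκ hE hE1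
  set R := (Finset.univ.val : Multiset D.Idx).map (fun i => c ^ E i) with hR
  have hc0 : c ≠ 0 := hc.ne_zero hp.out.ne_zero
  have hRp : ∀ μ ∈ R, μ ^ p = 1 := by
    intro μ hμ
    rw [hR, Multiset.mem_map] at hμ
    obtain ⟨i, _, rfl⟩ := hμ
    rw [← zpow_natCast, ← zpow_mul, mul_comm, zpow_mul, zpow_natCast, hc.pow_eq_one, one_zpow]
  have h1 := (Cfsg.Agent.H55.PQ.cnt_dvd hq.out hRp hn hqn hm).1
  set Z : Set K := {μ : K | μ ≠ 1 ∧ ¬ p ∣ R.count μ} with hZ
  have hsub : Z ⊆ (({c, c ^ 2, c⁻¹, (c ^ 2)⁻¹} : Finset K) : Set K) := by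
    intro μ hμ
    have h2 : μ ∈ R := by
      by_contra h3
      apply hμ.2
      rw [Multiset.count_eq_zero_of_notMem h3]
      exact dvd_zero _
    rw [hR, Multiset.mem_map] at h2
    obtain ⟨i, _, hi⟩ := h2
    have hi : c ^ E i = μ := hi
    have h3 : E i ≠ 0 := by
      intro h4
      rw [h4, zpow_zero] at hi
      exact hμ.1 hi.symm
    obtain ⟨h4, h5⟩ := hE2 i
    have h6 : E i = 1 ∨ E i = 2 ∨ E i = -1 ∨ E i = -2 := by omega
    rw [Finset.mem_coe, Finset.mem_insert, Finset.mem_insert, Finset.mem_insert, Finset.mem_singleton, ← hi]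
    rcases h6 with h6 | h6 | h6 | h6 <;> rw [h6]
    · left; rw [zpow_one]
    · right; left; exact zpow_ofNat c 2
    · right; right; left; rw [zpow_neg, zpow_one]
    · right; right; right; rw [zpow_neg]; congr 1; exact zpow_ofNat c 2
  have hcard : Z.ncard ≤ 4 := by
    have h2 := Set.ncard_le_ncard hsub (Finset.finite_toSet _)
    rw [Set.ncard_coe_finset] at h2
    exact h2.trans Finset.card_le_four
  have hmem : c ^ (2 : ℤ) ∈ Z := by
    refine ⟨?_, ?_⟩
    · intro h2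
      have h3 := (hc.zpow_eq_one_iff_dvd 2).1 h2
      have h4 := Int.le_of_dvd (by norm_num) h3
      omega
    · rw [hR, count_map_zpow hc]
      have h2 : (Finset.univ.filter fun i => (p : ℤ) ∣ E i - 2) = Finset.univ.filter fun i => E i = 2 := by
        ext i
        rw [Finset.mem_filter, Finset.mem_filter]
        refine and_congr_right fun _ => ⟨fun h3 => ?_, fun h3 => by rw [h3, sub_self]; exact dvd_zero _⟩
        obtain ⟨h4, h5⟩ := hE2 i
        have h6 : (p : ℤ) ∣ 2 - E i := by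
          rw [← neg_sub]
          exact (dvd_neg).2 h3
        by_contra h7
        have h8 := Int.le_of_dvd (by omega) h6
        omega
      rw [h2, hE3]
      exact fun h3 => hp.out.one_lt.ne' (Nat.dvd_one.1 h3)
  have hpos : 0 < Z.ncard := (Set.ncard_pos ((Finset.finite_toSet _).subset hsub)).2 ⟨_, hmem⟩
  have := Nat.le_of_dvd hpos h1
  omega

/-- **many weights** : the value `a` occurs at least `N` and less than `p` times, the weights are symmetric,
`|R| < 2 q N` -/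
theorem two_many (hq2 : q ≠ 2) {a : ℤ} (ha : ¬ (p : ℤ) ∣ a) {N : ℕ} (hN0 : N ≠ 0)
    (hN : N ≤ (Finset.univ.filter fun i => (p : ℤ) ∣ E i - a).card)
    (hNp : (Finset.univ.filter fun i => (p : ℤ) ∣ E i - a).card < p)
    (hsym : ∀ b : ℤ, (Finset.univ.filter fun i => (p : ℤ) ∣ E i - b).card =
      (Finset.univ.filter fun i => (p : ℤ) ∣ E i + b).card)
    (hlt : Fintype.card D.Idx < 2 * q * N) : False := by
  classical
  obtain ⟨K, _, _, c, n, hc, hn, hqn, hm⟩ := two_data hD hpF hF hinv hle hG π hπ hker hkp hΨ hp7 hqφ hQ he hpQ hk₀ hκ hE hE1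
  set R := (Finset.univ.val : Multiset D.Idx).map (fun i => c ^ E i) with hR
  have hc0 : c ≠ 0 := hc.ne_zero hp.out.ne_zero
  have hRp : ∀ μ ∈ R, μ ^ p = 1 := by
    intro μ hμ
    rw [hR, Multiset.mem_map] at hμ
    obtain ⟨i, _, rfl⟩ := hμ
    rw [← zpow_natCast, ← zpow_mul, mul_comm, zpow_mul, zpow_natCast, hc.pow_eq_one, one_zpow]
  have hcnt : ∀ b : ℤ, R.count (c ^ b) = (Finset.univ.filter fun i => (p : ℤ) ∣ E i - b).card := fun b => by
    rw [hR]
    exact count_map_zpow hc b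
  have hs : ∀ μ : K, R.count μ⁻¹ = R.count μ := by
    have key : ∀ b : ℤ, R.count (c ^ b)⁻¹ = R.count (c ^ b) := by
      intro b
      rw [← zpow_neg, hcnt, hcnt, hsym b]
      congr 1
      ext i
      rw [Finset.mem_filter, Finset.mem_filter, sub_neg_eq_add]
    intro μ
    by_cases h1 : μ ∈ R
    · rw [hR, Multiset.mem_map] at h1
      obtain ⟨i, _, rfl⟩ := h1
      exact key (E i)
    · by_cases h2 : μ⁻¹ ∈ R
      · rw [hR, Multiset.mem_map] at h2
        obtain ⟨i, _, h3⟩ := h2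
        have h3 : c ^ E i = μ⁻¹ := h3
        have h4 := key (E i)
        rw [h3, inv_inv] at h4
        exact h4.symm
      · rw [Multiset.count_eq_zero_of_notMem h1, Multiset.count_eq_zero_of_notMem h2]
  have h1 : c ^ a ≠ 1 := fun h => ha ((hc.zpow_eq_one_iff_dvd a).1 h)
  have h2 := bound (by omega) hq.out hq2 hRp hn hqn hm hs h1 (by rw [hcnt]; omega) (by rw [hcnt]; exact hNp)
  rw [hcnt] at h2
  have h3 : Multiset.card R = Fintype.card D.Idx := by
    rw [hR, Multiset.card_map]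
    rfl
  rw [h3] at h2
  have h4 : 2 * q * N ≤ 2 * q * (Finset.univ.filter fun i => (p : ℤ) ∣ E i - a).card := Nat.mul_le_mul_left _ hN
  omega

end final

end Cfsg.Agent.H754.PQ
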