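import Cfsg.Agent.H754.PQ.Two
import Cfsg.Agent.S1025

/-!
# S4981: the weights of the root `SL₂` (helper754)

* `glmap_psi`, `hasWt_psi` : the root `SL₂`;
* `two_long` : the case of a long root `SL₂(Q)`;
* `kap`, `two_tf4` : the groups `²F₄(Q)`.
-/

set_option autoImplicit false

open Polynomial Cfsg Subgroup

open scoped MatrixGroups

namespace Cfsg.Agent.H754.PQ

open Cfsg.Lie Cfsg.Agent.ChevalleyStructure Cfsg.Agent.ChevalleyStructure.Elts
open Cfsg.Agent.H54.PQ Cfsg.Agent.H967.CopMat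
open Cfsg.Agent.Nodes.RGDFoldSL (wS hS coe_wS coe_hS map_hS psi psi_up psi_lo psi_hS psi_wS psi_mem map_up map_lo)
open Cfsg.Agent.ChevalleyStructure.SL2Hom (up lo mem_closure_SL2)

universe u v w

theorem glmap_xG {D : ChevalleyDatum} (hD : InList D) {F : Type v} [Field F] {K : Type w} [Field K] (f : F →+* K) (r : ℕ)
    (t : F) : Matrix.GeneralLinearGroup.map f (xG hD r t) = xG hD r (f t) :=
  Units.ext (Cfsg.Agent.ChevStructure.FieldMap.x_map D f r t)

theorem glmap_psi {D : ChevalleyDatum} (hD : InList D) {F : Type v} [Field F] {K : Type w} [Field K] (f : F →+* K)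
    {r : ℕ} (hr : r < D.nroots) (M : Matrix.SpecialLinearGroup (Fin 2) F) :
    Matrix.GeneralLinearGroup.map f (psi hD F r M) = psi hD K r (Matrix.SpecialLinearGroup.map f M) := by
  have h := mem_closure_SL2 M
  induction h using closure_induction with
  | mem x hx =>
    rcases hx with ⟨t, rfl⟩ | ⟨t, rfl⟩
    · rw [psi_up hD hr, map_up, psi_up hD hr, glmap_xG]
    · rw [psi_lo hD hr, map_lo, psi_lo hD hr, glmap_xG]
  | one => rw [map_one, map_one, map_one, map_one]
  | mul x y _ _ hx hy => rw [map_mul, map_mul, hx, hy, map_mul, map_mul]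
  | inv x _ hx => rw [map_inv, map_inv, hx, map_inv, map_inv]

theorem slmap_injective {F : Type v} [Field F] {K : Type w} [Field K] (f : F →+* K) :
    Function.Injective (Matrix.SpecialLinearGroup.map (n := Fin 2) f) := by
  intro x y hxy
  apply Subtype.ext
  ext a b
  apply f.injective
  exact congrFun (congrFun (congrArg Subtype.val hxy) a) b

/-- the weights of the root `r` -/
def wt (D : ChevalleyDatum) (r : ℕ) : D.Idx → ℤ := Sum.elim (fun _ => 0) (fun s => HMatDiagAll.expo D r s.val)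

theorem coe_psi_dg {D : ChevalleyDatum} (hD : InList D) {K : Type v} [Field K] {r : ℕ} (hr : r < D.nroots) (c : Kˣ) :
    ((psi hD K r (SLTwo.dg c) : GL D.Idx K) : Matrix D.Idx D.Idx K) = Matrix.diagonal (fun i => (c : K) ^ wt D r i) := by
  rw [SLTwo.dg_eq, psi_hS hD hr, coe_hG, HMatDiagAll.hMat_eq_diagonal hD hr c.ne_zero]
  congr 1
  funext i
  rcases i with i | i
  · show (1 : K) = (c : K) ^ (0 : ℤ)
    rw [zpow_zero]
  · rfl

theorem hasWt_psi {p : ℕ} (hp : p.Prime) (hp2 : p ≠ 2) {D : ChevalleyDatum} (hD : InList D) {F : Type v} [Field F]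
    {k₀ : Type w} [Field k₀] (f : k₀ →+* F) {r : ℕ} (hr : r < D.nroots) :
    HasWt p ((psi hD F r).comp (Matrix.SpecialLinearGroup.map f)) (wt D r) := by
  intro K _ _ _ ζ hζ N hN hN1
  obtain ⟨k, c, hc, hc1, h⟩ := SLTwo.exists_conj hp hp2 hζ
    (g := Matrix.SpecialLinearGroup.map (algebraMap F K) (Matrix.SpecialLinearGroup.map f N))
    (by rw [← map_pow, ← map_pow, hN, map_one, map_one])
    (fun h => hN1 (slmap_injective f (slmap_injective (algebraMap F K) (by rw [h, map_one, map_one]))))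
  refine ⟨(c : K), psi hD K r k, ?_, ?_, ?_⟩
  · rw [← Units.val_pow_eq_pow_val, hc, Units.val_one]
  · intro h1
    exact hc1 (Units.ext (h1.trans Units.val_one.symm))
  · rw [← coe_psi_dg hD hr, ← h]
    rw [MonoidHom.comp_apply, glmap_psi hD _ hr, map_mul, map_mul, map_inv]

/-! ### long roots -/

/-- `r` is a long root: the weights are `0, ±1, ±2`, the weight `2` occurs once -/
structure LongOK (D : ChevalleyDatum) (r : ℕ) : Prop where
  lt : r < D.nroots
  le : ∀ s < D.nroots, -2 ≤ HMatDiagAll.expo D r s ∧ HMatDiagAll.expo D r s ≤ 2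
  uniq : ∀ s < D.nroots, HMatDiagAll.expo D r s = 2 → s = r

theorem expo_self (D : ChevalleyDatum) (r : ℕ) : HMatDiagAll.expo D r r = 2 := by
  rw [HMatDiagAll.expo, if_pos rfl]

section final

variable {p q : ℕ} [hp : Fact p.Prime] [hq : Fact q.Prime] {S : Type u} [Group S] [Finite S] {D : ChevalleyDatum}
    (hD : InList D) {F : Type v} [Field F] [Finite F] {Ψ : (F ≃+* F) →* MulAut S} {A Φ : Subgroup (MulAut S)}
    {φ : F ≃+* F} (hpF : (p : F) ≠ 0) (hF : FSit p q Ψ A Φ φ) (hinv : InvHyp p A Φ) {G : Subgroup (GL D.Idx F)}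
    (hle : G ≤ D.group F) (hG : Stab G) (π : ↥G →* S) (hπ : Function.Surjective π)
    (hker : ∀ z ∈ π.ker, z ∈ center ↥G) (hkp : ¬ p ∣ Nat.card π.ker)
    (hΨ : ∀ (σ : F ≃+* F) (g : ↥G), π (fieldAut hG σ g) = Ψ σ (π g)) (hp7 : 7 < p)
    (hqφ : q ∣ orderOf (Nat.card (Fx φ) : ZMod p)) {Q e : ℕ}
    (hQ : Nat.card F = Q ^ e) (he : ¬ p ∣ e) (hpQ : p ∣ Q ^ 2 - 1) {k₀ : Type w} [Field k₀] [Fintype k₀]
    (hk₀ : Fintype.card k₀ = Q)

include hD hpF hF hinv hle hG hπ hker hkp hΨ hp7 hqφ hQ he hpQ hk₀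

/-- **`p ∣ Q² - 1`, `G` contains a long root `SL₂(Q)`: contradiction** -/
theorem two_long (h5 : 5 ≤ q) (f : k₀ →+* F) {r : ℕ} (hr : LongOK D r) (hup : ∀ t, xG hD r (f t) ∈ G)
    (hlo : ∀ t, xG hD (D.neg r) (f t) ∈ G) : False := by
  classical
  have hmem : ∀ g : Matrix.SpecialLinearGroup (Fin 2) k₀,
      ((psi hD F r).comp (Matrix.SpecialLinearGroup.map f)) g ∈ G := by
    intro g
    have h := mem_closure_SL2 g
    induction h using closure_induction with
    | mem x hx =>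
      rcases hx with ⟨t, rfl⟩ | ⟨t, rfl⟩
      · rw [MonoidHom.comp_apply, map_up, psi_up hD hr.lt]; exact hup t
      · rw [MonoidHom.comp_apply, map_lo, psi_lo hD hr.lt]; exact hlo t
    | one => rw [map_one]; exact G.one_mem
    | mul x y _ _ hx hy => rw [map_mul]; exact G.mul_mem hx hy
    | inv x _ hx => rw [map_inv]; exact G.inv_mem hx
  refine two_few hD hpF hF hinv hle hG π hπ hker hkp hΨ hp7 hqφ hQ he hpQ hk₀ hmem
    (hasWt_psi hp.out (by omega) hD f hr.lt) ⟨Sum.inr ⟨r, hr.lt⟩, ?_⟩ h5 ?_ ?_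
  · show ¬ (p : ℤ) ∣ HMatDiagAll.expo D r r
    rw [expo_self]
    intro h
    have := Int.le_of_dvd (by norm_num) h
    omega
  · rintro (i | i)
    · exact ⟨by show (-2 : ℤ) ≤ 0; norm_num, by show (0 : ℤ) ≤ 2; norm_num⟩
    · exact hr.le i.1 i.2
  · rw [Finset.card_eq_one]
    refine ⟨Sum.inr ⟨r, hr.lt⟩, ?_⟩
    ext i
    rw [Finset.mem_filter, Finset.mem_singleton]
    constructor
    · rintro ⟨_, h⟩
      rcases i with i | i
      · exact absurd (show (0 : ℤ) = 2 from h) (by norm_num)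
      · have h1 := hr.uniq i.1 i.2 h
        exact congrArg Sum.inr (Fin.ext h1)
    · rintro rfl
      exact ⟨Finset.mem_univ _, expo_self D r⟩

end final

end Cfsg.Agent.H754.PQ
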